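import Cfsg.Agent.BlockB.Tame10
import Cfsg.Agent.BlockB.Avg
import Cfsg.Agent.Fus.Meta2

/-!
# Bounds for `k(B)` from major subsections, and nilpotency of dominated blocks
-/

namespace CF.BlockB

open Cfsg MonoidAlgebra Subgroup CF.Block CF.Invol

universe u

section Quot

variable {k : Type*} [Field k] {G : Type*} [Group G] [Finite G] {p : ℕ} [Fact p.Prime] [CharP k p]
  [IsAlgClosed k] {K : Type*} [Group K] [Finite K] {π : G →* K}

theorem nil_of_quot (hR : RegSupp p k K) (hπ : Function.Surjective π) (hker : IsPGroup p π.ker)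
    (hc : π.ker ≤ center G) {B : k[G]} (h : IsNilBlk p ⊤ (gmap π B)) : IsNilBlk p ⊤ B := by
  have hp : p.Prime := Fact.out
  intro Q f hf x hx hxp
  have hz : ∀ (R : Subgroup G), π.ker ≤ centralizer (R : Set G) := fun R z hz =>
    mem_centralizer_iff.2 fun y _ => mem_center_iff.1 (hc hz) y
  have hz' : ∀ y : G, y ∈ centralizer (π.ker : Set G) := fun y =>
    mem_centralizer_iff.2 fun z hz => (mem_center_iff.1 (hc hz) y).symm
  have hfN : IsBlk ((Cz ⊤ Q).map π) (gmap π f) := hf.pair.blk.gmap_of_centralizes hR π hker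
    (by rw [Cz_top]; exact hz Q) fun y _ _ => hz' y
  have hk : ∀ g : G, π g ∈ centralizer (Q.map π : Set K) → ∀ u ∈ Q, u⁻¹ * (g * u * g⁻¹) ∈ π.ker :=
    fun g hg u hu => by
      rw [MonoidHom.mem_ker, map_mul, map_mul, map_mul, map_inv, map_inv,
        conj_eq_of_mem_centralizer hg (mem_map_of_mem π hu), inv_mul_cancel]
  have key : ∀ g : G, ¬ p ∣ orderOf g → π g ∈ centralizer (Q.map π : Set K) →
      g ∈ centralizer (Q : Set G) := fun g hg h1 =>
    mem_centralizer_of_conj_mem hp hker hg (hz' g) (hk g h1)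
  have hreg : ∀ y ∈ Cz ⊤ (Q.map π), ¬ p ∣ orderOf y → y ∈ (Cz ⊤ Q).map π := fun y hy hyp => by
    obtain ⟨g, rfl⟩ := hπ y
    have h1 : π (pReg p g) = π g := by rw [map_pReg hp, pReg_of_pRegular hp hyp]
    refine ⟨pReg p g, ?_, h1⟩
    rw [Cz_top] at hy ⊢
    exact key _ (pReg_pRegular hp g) (h1 ▸ hy)
  have hNH : (Cz ⊤ Q).map π ≤ Cz ⊤ (Q.map π) := by
    rw [Cz_top, Cz_top]
    rintro _ ⟨g, hg, rfl⟩
    refine mem_centralizer_iff.2 ?_
    rintro _ ⟨u, hu, rfl⟩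
    rw [← map_mul, ← map_mul, mem_centralizer_iff.1 hg u hu]
  have hN0 : ∀ y ∈ Cz ⊤ (Q.map π), ∀ c ∈ (Cz ⊤ Q).map π, y * c * y⁻¹ ∈ (Cz ⊤ Q).map π := by
    rw [Cz_top, Cz_top]
    rintro y hy _ ⟨c, hc', rfl⟩
    obtain ⟨g, rfl⟩ := hπ y
    refine ⟨g * c * g⁻¹, mem_centralizer_iff.2 fun u hu => ?_, by simp⟩
    have h1 := hk g⁻¹ (by rw [map_inv]; exact inv_mem hy) u hu
    have h2 := mem_center_iff.1 (hc h1) c
    have h3 := mem_centralizer_iff.1 hc' u hu
    have h4 : c * (g⁻¹ * u * g) = g⁻¹ * u * g * c := by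
      calc c * (g⁻¹ * u * g) = c * u * (u⁻¹ * (g⁻¹ * u * g⁻¹⁻¹)) := by group
        _ = u * (c * (u⁻¹ * (g⁻¹ * u * g⁻¹⁻¹))) := by rw [← h3, mul_assoc]
        _ = _ := by rw [h2]; group
    calc u * (g * c * g⁻¹) = g * (g⁻¹ * u * g * c) * g⁻¹ := by group
      _ = _ := by rw [← h4]; group
  have hN : Cz ⊤ (Q.map π) ≤ normalizer (((Cz ⊤ Q).map π : Subgroup K) : Set K) := fun y hy =>
    mem_normalizer_iff.2 fun c => ⟨hN0 y hy c, fun h1 => by
      simpa [mul_assoc] using hN0 y⁻¹ (inv_mem hy) _ h1⟩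
  have hf' := hR.isBlk_orb hreg hfN hN hNH
  have hB : IsBlk ⊤ (gmap π B) := by
    have := hf.blk.gmap_of_centralizes hR π hker le_top fun y _ _ => hz' y
    rwa [map_top_of_surjective π hπ] at this
  have h1 : BPair p ⊤ (gmap π B) (Q.map π) (orb (Cz ⊤ (Q.map π)) (gmap π f)) := by
    refine BPair.of_ne ⟨le_top, hf.pair.isP.map π, hf'⟩ hB fun h1 => hfN.ne ?_
    have h2 := congrArg (· * gmap π f) h1
    simp only [zero_mul] at h2
    rwa [mul_assoc, hfN.orb_mul hN, ← gmap_Br' π hf.pair.isP (hf.blk.mem_fix_of_le le_top),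
      ← map_mul, hf.eq] at h2
  have h2 : π x ∈ normalizer (Q.map π : Set K) := le_normalizer_map π ⟨x, hx.1.1, rfl⟩
  refine key x hxp (h _ _ h1 (π x) ⟨⟨h2, trivial⟩, ?_⟩ (not_dvd_orderOf_map hxp))
  refine hR.eq_orb hreg (hf'.cj_of_mem_normalizer (Nz_le_normalizer_Cz _ _ ⟨h2, trivial⟩)) hfN hN
    hNH fun h3 => hfN.ne ?_
  have h4 : cj (π x) (gmap π f) = gmap π f := by rw [← gmap_cj, hx.2]
  have h5 := congrArg (cj (π x)) (hfN.orb_mul hN)
  rwa [map_mul, h4, h3, eq_comm] at h5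

end Quot

variable {p : ℕ} {M : Ideal AlgInt} {G : Type u} [Group G] [Finite G] {B : Set (IrrCharacter G)}
  {P : Subgroup G} {e : (k M)[G]}

theorem PQuot.eb_dom {K : Type*} [Group K] [Finite K] {π : G →* K} (h : PQuot p π)
    (hM : IsPModular p M) (hB : IsPBlock M B) : eb M (dom π B) = gmap π (eb M B) := by
  have := Fact.mk hM.1
  have := charP_k hM
  have h1 := (isBlk_eb hM hB).gmap_of_centralizes (regSupp hM) π h.ker le_top fun y _ hy =>
    mem_centralizer_iff.2 fun z hz => (h.cent z hz y hy).eq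
  rw [map_top_of_surjective π h.surj] at h1
  obtain ⟨χ, hχ⟩ := h.dom_nonempty hM hB
  have h2 := h.isPBlock_dom hM hB
  exact ((h1.eq_or_mul_eq_zero (isBlk_eb hM h2)).resolve_right ((mem_iff_gmap_mul_ne_zero hM h.surj
    h2 hB hχ rfl).1 ((mem_dom_iff h.surj).1 hχ))).symm

/-- Fully centralized elements have the expected defect groups. -/
theorem isDefGrp_sbl (hM : IsPModular p M) {f : (k M)[G]} (he : MaxPair p ⊤ f P e) {u : G}
    (hu : u ∈ P) (h : ∀ w, FConj p P e u w →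
      Nat.card (P ⊓ Cen w : Subgroup G) ≤ Nat.card (P ⊓ Cen u : Subgroup G)) :
    IsDefGrp p (Cen u) (ebs M _ (sbl p P e u)) (P ⊓ Cen u) := by
  have := Fact.mk hM.1
  have := charP_k hM
  have hp := he.bpair.pair
  have h1 := (sbl_spec hM hp hu).2
  refine (he.isDefGrp_inf_iff h1 ((Cz_top_zpowers u).ge.trans (h1.left hp).Cz_le_stab)
    (h1.left hp).isBlk_Cen).2 fun x _ hx => ?_
  rw [cjs_zpowers] at hx
  have := h _ ⟨x, _, rfl, h1, hx⟩
  rwa [← Cz_top_zpowers, cjs_Cz, cjs_top, cjs_zpowers, Cz_top_zpowers, Cz_top_zpowers]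

/-- The block dominated by a subsection. -/
theorem exists_quot (hM : IsPModular p M) (he : IsPair p ⊤ P e) {u : G} (hu : u ∈ P)
    {D : Subgroup G} (hD : IsDefGrp p (Cen u) (ebs M _ (sbl p P e u)) D) :
    ∃ (K : Type u) (_ : Group K) (_ : Finite K) (ρ : D →* K) (b : Set (IrrCharacter K)),
      IsPBlock M b ∧ IsDefectGroup p M b ρ.range ∧ blockRank p b = blockRank p (sbl p P e u) ∧
      (∀ g, ρ g = 1 ↔ (g : G) ∈ zpowers u) ∧
      (IsNilBlk p ⊤ (eb M b) → IsNilBlk p (Cen u) (ebs M _ (sbl p P e u))) := by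
  have := Fact.mk hM.1
  have := charP_k hM
  have hb := (sbl_spec hM he hu).1
  set u' : Cen u := ⟨u, mem_Cen.2 rfl⟩
  have hc : zpowers u' ≤ center (Cen u) := zpowers_le_of_mem
    (mem_center_iff.2 fun y => Subtype.ext (mem_Cen.1 y.2))
  have : (zpowers u').Normal := ⟨fun n hn g => by
    rw [mem_center_iff.1 (hc hn) g, mul_inv_cancel_right]; exact hn⟩
  have hp : IsPGroup p (zpowers u') := by
    rw [← isPGroup_map_iff (Cen u).subtype_injective, MonoidHom.map_zpowers]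
    exact he.isP.to_le (zpowers_le_of_mem hu)
  have h := pQuot_mk hp (regCent_of_le_center hc)
  refine ⟨Cen u ⧸ zpowers u', inferInstance, inferInstance,
    (QuotientGroup.mk' _).comp (inclusion hD.le), dom (QuotientGroup.mk' _) (sbl p P e u),
    h.isPBlock_dom hM hb, ?_, h.blockRank_dom hM hb, fun g => ?_, fun h1 => ?_⟩
  · rw [MonoidHom.range_comp, inclusion_range]
    exact h.isDefectGroup_dom hM hb ((isDefectGroup_iff_subgroupOf hM hb hD.le).2 hD)
  · rw [MonoidHom.comp_apply, QuotientGroup.mk'_apply, QuotientGroup.eq_one_iff,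
      ← mem_map_iff_mem (Cen u).subtype_injective, MonoidHom.map_zpowers]
    rfl
  · rw [h.eb_dom hM hb] at h1
    have h2 := (isNilBlk_gmap (Cen u).subtype_injective).2 (nil_of_quot (regSupp hM) h.surj h.ker
      (by rwa [QuotientGroup.ker_mk']) h1)
    rwa [map_top_subtype] at h2

section Major

variable (B) in
/-- The number of characters of height zero. -/
noncomputable abbrev kz : ℕ := Nat.card {χ : IrrCharacter G // χ ∈ B ∧ blockHeight 2 B (χ : G → ℂ) = 0}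

theorem sum_ite_height [DecidablePred (· ∈ B)] (c : ℝ) :
    ∑ χ ∈ Finset.univ.filter (· ∈ B), (if blockHeight 2 B (χ : G → ℂ) = 0 then c else 4) =
      4 * Nat.card B + (c - 4) * kz B := by
  classical
  have h1 : ∀ χ : IrrCharacter G, (if blockHeight 2 B (χ : G → ℂ) = 0 then c else 4) =
      4 + (c - 4) * if blockHeight 2 B (χ : G → ℂ) = 0 then 1 else 0 := fun χ => by
    split_ifs <;> ring
  simp_rw [h1]
  rw [Finset.sum_add_distrib, ← Finset.mul_sum, Finset.sum_boole, Finset.filter_filter,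
    card_eq_card_filter, kz, Nat.card_eq_fintype_card, Fintype.card_subtype]
  simp [mul_comm]

variable {x : G} {b : Set (IrrCharacter (Cen x))} (hM : IsPModular 2 M)
  (hx : ∃ k : ℕ, orderOf x = 2 ^ k) (hind : IsInducedBlock M (Cen x) b B)
  (hd : blockDefect 2 b = blockDefect 2 B)
include hM hx hind hd

theorem four_card_le_rank {c : ℝ}
    (h : ∀ χ ∈ B, blockHeight 2 B (χ : G → ℂ) = 0 → c ≤ cavg 2 b x χ) :
    4 * (Nat.card B : ℝ) + (c - 4) * kz B ≤ blockRank 2 b * 2 ^ blockDefect 2 B := by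
  classical
  have h1 := sum_cavg hM hx rfl hind
  rw [hd] at h1
  rw [← sum_ite_height]
  refine (Finset.sum_le_sum fun χ hχ => ?_).trans (by exact_mod_cast h1.le)
  have hχ := (Finset.mem_filter.1 hχ).2
  split_ifs with h0
  · exact h χ hχ h0
  · obtain ⟨a, h2, h3⟩ := exists_cavg_of_height hM hx rfl hind hd hχ h0
    rw [h3]
    have h4 : (2 : ℝ) ^ 2 ≤ 2 ^ (blockHeight 2 B (χ : G → ℂ) + 1) :=
      pow_le_pow_right₀ one_le_two (by omega)
    have h5 : (1 : ℝ) ≤ a := Nat.one_le_cast.2 (Nat.pos_of_ne_zero h2)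
    nlinarith

theorem four_card_le_cavg {χ : IrrCharacter G} (hχ : χ ∈ B) (h0 : blockHeight 2 B (χ : G → ℂ) = 0) :
    4 * (Nat.card B : ℝ) + (1 - 4) * kz B ≤ 2 ^ blockDefect 2 B * cavg 2 b x χ := by
  classical
  have h1 := sum_pow_height_le_cavg hM hx rfl hind hd hχ h0
  rw [hd, Nat.cast_ofNat] at h1
  rw [← sum_ite_height]
  refine (Finset.sum_le_sum fun χ _ => ?_).trans h1
  split_ifs with h0
  · simp [h0]
  · exact le_trans (by norm_num) (pow_le_pow_right₀ one_le_two (by omega : 2 ≤ _))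

theorem four_card_le_of_rank_one (h : blockRank 2 b = 1) :
    4 * Nat.card B ≤ 2 ^ blockDefect 2 B + 3 * kz B := by
  have h1 := four_card_le_rank hM hx hind hd (c := 1) fun χ hχ h0 => by
    obtain ⟨a, h2, h3⟩ := exists_odd_cavg hM hx rfl hind hχ h0
    rw [h3]; exact_mod_cast h2.pos
  rw [h] at h1
  exact_mod_cast (by push_cast at h1 ⊢; linarith :
    ((4 * Nat.card B : ℕ) : ℝ) ≤ (2 ^ blockDefect 2 B + 3 * kz B : ℕ))

theorem card_le_of_major (h : blockRank 2 b ≤ 3 ∨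
    (blockRank 2 b ≤ 4 ∧ 3 * kz B ≤ 2 ^ blockDefect 2 B)) : Nat.card B ≤ 2 ^ blockDefect 2 B := by
  classical
  have hk : (kz B : ℝ) ≤ Nat.card B := by
    exact Nat.cast_le.2 (Nat.card_le_card_of_injective (β := B) (fun χ => ⟨χ.1, χ.2.1⟩)
      fun _ _ h => Subtype.ext (Subtype.mk.inj h))
  have h0 : (0 : ℝ) ≤ kz B := Nat.cast_nonneg _
  have hq : (0 : ℝ) < 2 ^ blockDefect 2 B := by positivity
  have hodd : ∀ n : ℕ, (¬ ∃ χ ∈ B, blockHeight 2 B (χ : G → ℂ) = 0 ∧ cavg 2 b x χ ≤ 2 * n + 1) →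
      4 * (Nat.card B : ℝ) + (2 * n + 3 - 4) * kz B ≤ blockRank 2 b * 2 ^ blockDefect 2 B :=
    fun n hn => four_card_le_rank hM hx hind hd fun χ hχ h1 => by
      obtain ⟨a, ⟨c, rfl⟩, h3⟩ := exists_odd_cavg hM hx rfl hind hχ h1
      have h4 : ¬ 2 * c + 1 ≤ 2 * n + 1 := fun h4 => hn ⟨χ, hχ, h1, by rw [h3]; exact_mod_cast h4⟩
      rw [h3]; exact_mod_cast (by omega : 2 * n + 3 ≤ 2 * c + 1)
  rw [← Nat.cast_le (α := ℝ)]
  push_cast
  rcases h with h | ⟨h, h'⟩
  · have h : (blockRank 2 b : ℝ) ≤ 3 := by exact_mod_cast h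
    by_cases h1 : ∃ χ ∈ B, blockHeight 2 B (χ : G → ℂ) = 0 ∧ cavg 2 b x χ ≤ 2 * (0 : ℕ) + 1
    · obtain ⟨χ, h1, h2, h3⟩ := h1
      have := four_card_le_cavg hM hx hind hd h1 h2
      push_cast at h3
      nlinarith
    · have := hodd 0 h1
      push_cast at this
      nlinarith
  · have h : (blockRank 2 b : ℝ) ≤ 4 := by exact_mod_cast h
    have h' : (3 * kz B : ℝ) ≤ 2 ^ blockDefect 2 B := by exact_mod_cast h'
    by_cases h1 : ∃ χ ∈ B, blockHeight 2 B (χ : G → ℂ) = 0 ∧ cavg 2 b x χ ≤ 2 * (1 : ℕ) + 1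
    · obtain ⟨χ, h1, h2, h3⟩ := h1
      have := four_card_le_cavg hM hx hind hd h1 h2
      push_cast at h3
      nlinarith
    · have := hodd 1 h1
      push_cast at this
      nlinarith

omit hd in
theorem kz_le_of_rank (h : blockRank 2 b ≤ 3) : kz B ≤ 2 ^ blockDefect 2 b := by
  classical
  have h1 := sum_cavg hM hx rfl hind
  have hq : (0 : ℝ) < 2 ^ blockDefect 2 b := by positivity
  have h : (blockRank 2 b : ℝ) ≤ 3 := by exact_mod_cast h
  rw [kz, Nat.card_eq_fintype_card, Fintype.card_subtype, ← Nat.cast_le (α := ℝ)]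
  push_cast at h1 ⊢
  by_cases h2 : ∃ χ ∈ B, blockHeight 2 B (χ : G → ℂ) = 0 ∧ cavg 2 b x χ = 1
  · obtain ⟨χ, h2, h3, h4⟩ := h2
    simpa [h4] using card_height_zero_le_cavg hM hx rfl hind h2 h3
  · have h3 := Finset.card_nsmul_le_sum (Finset.univ.filter fun χ => χ ∈ B ∧
      blockHeight 2 B (χ : G → ℂ) = 0) (fun ξ => cavg 2 b x ξ) 3 fun ξ hξ => by
        obtain ⟨h3, h4⟩ := (Finset.mem_filter.1 hξ).2
        obtain ⟨a, ⟨c, rfl⟩, h5⟩ := exists_odd_cavg hM hx rfl hind h3 h4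
        have : c ≠ 0 := fun h6 => h2 ⟨ξ, h3, h4, by simp [h5, h6]⟩
        rw [h5]; exact_mod_cast (by omega : 3 ≤ 2 * c + 1)
    have h4 := (Finset.sum_le_sum_of_subset_of_nonneg (f := fun ξ : IrrCharacter G => cavg 2 b x ξ)
      (Finset.monotone_filter_right Finset.univ (p := fun χ => χ ∈ B ∧
        blockHeight 2 B (χ : G → ℂ) = 0) (q := (· ∈ B)) fun _ _ h => h.1)
      fun _ _ _ => cavg_nonneg _ _ _).trans h1.le
    rw [nsmul_eq_mul] at h3
    nlinarith

end Major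

end CF.BlockB
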