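import Cfsg.Agent.BlockB.Ix1
import Cfsg.Agent.BlockB.BF
import Cfsg.Agent.Invol.Wreath2

/-!
# Fusion in blocks, and blocks with metacyclic defect groups
-/

namespace CF.BlockB

open Cfsg MonoidAlgebra Subgroup CF.Block CF.Invol

theorem eq_or_of_mul_self {G : Type*} [Group G] {x y : G} (hx : x * x = 1) (hy : y ∈ zpowers x) :
    y = 1 ∨ y = x := by
  obtain ⟨i, rfl⟩ := hy
  have h2 : x ^ (2 : ℤ) = 1 := by rw [zpow_two, hx]
  obtain ⟨j, rfl | rfl⟩ := Int.even_or_odd' i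
  · exact Or.inl (by simp only [zpow_mul, h2, one_zpow])
  · exact Or.inr (by simp only [zpow_add, zpow_mul, h2, one_zpow, zpow_one, one_mul])

section Fus

variable {p : ℕ} {M : Ideal AlgInt} {G : Type*} [Group G] [Finite G] {P Q : Subgroup G}
  {e b : (k M)[G]} {F : FusionSystem P} {φ : G → G} {u w q : G}

theorem isPGroup_autGroup (hM : IsPModular p M) {L : Subgroup G} (hF : IsBFS p L P e F)
    (he : IsPair p L P e) (hQ : Q ≤ P)
    (h : ∀ g ∈ normalizer (Q : Set G), ¬ p ∣ orderOf g → g ∈ centralizer (Q : Set G)) :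
    IsPGroup p (F.autGroup Q) := by
  have := Fact.mk hM.1
  have := charP_k hM
  rw [hF.autGroup_eq he (he.ple_sbk hQ), Fus.isPGroup_iff_mem]
  intro α hα
  obtain ⟨x, -, hx', rfl⟩ := Fus.mem_autInducedBy.1 hα
  obtain ⟨n, hn⟩ := exists_pPart_pow hM.1 x
  refine ⟨n, ?_⟩
  rw [← pPart_mul_pReg (p := p) x, Fus.cA_mul (pPart_mem hx') (pReg_mem hx'),
    (Fus.cA_eq_one_iff (pReg_mem hx')).2 (h _ (pReg_mem hx') (pReg_pRegular hM.1 x)), mul_one,
    ← Fus.cA_pow (pPart_mem hx'), hn, Fus.cA_one]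

variable (hM : IsPModular p M) (hF : IsBFS p ⊤ P e F) (he : MaxPair p ⊤ b P e)
include hM hF he

theorem fConj_of_mor (hφ : Fus.Mor F Q φ) (hu : u ∈ Q) : FConj p P e u (φ u) := by
  obtain ⟨-, x, -, h1, f, h2, h3⟩ := (hF _ _).1 (hφ.mono (zpowers_le_of_mem hu))
  rw [h1 u (mem_zpowers u)]
  exact ⟨x, f, rfl, h2, by rwa [← cjs_zpowers]⟩

theorem exists_ext (h : FConj p P e u w) (hw : ∀ v, FConj p P e w v →
    Nat.card (P ⊓ Cen v : Subgroup G) ≤ Nat.card (P ⊓ Cen w : Subgroup G)) :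
    ∃ φ, Fus.Mor F (P ⊓ Cen u) φ ∧ φ u = w := by
  have := Fact.mk hM.1
  have := charP_k hM
  have hp := he.bpair.pair
  have h1 : F.IsFullyCentralized (zpowers w) := by
    rw [hF.fc_iff he (sbl_spec hM hp h.right).2, Cz_top_zpowers, centralizer_zpowers']
    exact isDefGrp_sbl hM he h.right hw
  obtain ⟨g, f, rfl, h2, h3⟩ := h
  obtain ⟨ψ, h4, h5⟩ := (hF.sat he).ext_CS h1 ((hF.iso_iff (φ := Fus.cj g) hp h2).2
    ⟨g, trivial, fun _ _ => rfl, cjs_zpowers g u, by rwa [cjs_zpowers]⟩)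
  refine ⟨ψ, h4.mono (le_trans ?_ le_sup_right), h5 u (mem_zpowers u)⟩
  rw [← centralizer_zpowers']
  exact le_rfl

theorem agree_of_norm (hn : P ≤ normalizer (Q : Set G))
    (h : ∀ g ∈ normalizer (Q : Set G), ¬ p ∣ orderOf g → g ∈ centralizer (Q : Set G))
    (hφ : Fus.Mor F Q φ) (hm : ∀ u ∈ Q, φ u ∈ Q) : ∃ s ∈ P, ∀ u ∈ Q, φ u = s * u * s⁻¹ := by
  have := Fact.mk hM.1
  have := charP_k hM
  obtain ⟨α, h1, h2⟩ := (hφ.iso_self hm).exists_aut
  rw [← ((hF.sat he).syl_of_fn (Fus.fn_of_norm F hφ.le hn)).eq_of_isPGroup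
    (isPGroup_autGroup hM hF he.bpair.pair hφ.le h)] at h1
  obtain ⟨s, hs, h3⟩ := Fus.mem_autInducedBy'.1 h1
  exact ⟨s, hs, fun u hu => (h2 u hu).symm.trans (h3 u hu)⟩

omit hF in
theorem Tq_eq (hq : q ∈ P) (h2 : q * q = 1) : Tq p P e (zpowers q) = Cen q := by
  have := Fact.mk hM.1
  have := charP_k hM
  refine le_antisymm (fun g hg => ?_)
    ((Cz_top_zpowers q).ge.trans (Cz_le_Tq he.bpair.pair (zpowers_le_of_mem hq)))
  have h1 := (mem_normalizer_iff.1 hg.1.1 q).1 (mem_zpowers q)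
  rcases eq_or_of_mul_self h2 h1 with h3 | h3
  · rw [conj_eq_one_iff.1 h3]; exact mem_Cen.2 (by simp)
  · exact mem_Cen.2 (mul_inv_eq_iff_eq_mul.1 h3)

omit [Finite G] hM hF he in
theorem le_normalizer_of_le_Cen (h : P ≤ Cen q) : P ≤ normalizer (zpowers q : Set G) :=
  h.trans ((centralizer_zpowers' q).ge.trans (centralizer_le_normalizer _))

omit hF in
theorem nil_Tq_iff (hq : q ∈ P) (h2 : q * q = 1) :
    IsNilBlk p (Tq p P e (zpowers q)) (sbk p ⊤ P e (zpowers q)) ↔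
      IsNilBlk p (Cen q) (ebs M _ (sbl p P e q)) := by
  rw [Tq_eq hM he hq h2, ebs_sbl hM he.bpair.pair hq]

theorem agree_of_nil (hc : P ≤ Cen w) (h2 : w * w = 1)
    (hnil : IsNilBlk p (Cen w) (ebs M _ (sbl p P e w))) (hφ : Fus.Mor F Q φ) (hw : w ∈ Q)
    (hφw : φ w = w) : ∃ s ∈ P, ∀ u ∈ Q, φ u = s * u * s⁻¹ := by
  have := Fact.mk hM.1
  have := charP_k hM
  have hp := he.bpair.pair
  obtain ⟨hQ, x, -, h1, f, h3, h4⟩ := (hF _ _).1 hφ
  have hwP := zpowers_le_of_mem (hQ hw)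
  have hn := le_normalizer_of_le_Cen hc
  have he' := maxPair_Tq he hwP hn
  have h5 : ∀ R g, w ∈ R → PLE p ⊤ R g P e → PLE p (Tq p P e (zpowers w)) R g P e :=
    fun R g hR h => by
      rw [← h.sbk_eq hp, ← sbk_Tq he hwP hn (zpowers_le_of_mem hR) h.le]
      exact he'.bpair.pair.ple_sbk h.le
  have h6 : x * w * x⁻¹ = w := (h1 w hw).symm.trans hφw
  obtain ⟨s, hs, h7⟩ := he'.exists_agree_of_nil ((nil_Tq_iff hM he (hQ hw) h2).2 hnil)
    (h5 Q f hw h3) (x := x) (by rw [Tq_eq hM he (hQ hw) h2]; exact mem_Cen.2 (mul_inv_eq_iff_eq_mul.1 h6))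
    (h5 _ _ (h6 ▸ conj_mem_cjs.2 hw) h4)
  exact ⟨s, hs, fun u hu => (h1 u hu).trans (h7 u hu)⟩

omit hF in
theorem nil_of_cent (hq : q ∈ P) (hc : P ≤ Cen q) (h2 : q * q = 1) {y : G} (hy : y ∈ P)
    (hyq : ∀ u ∈ P, u⁻¹ * (y * u * y⁻¹) ∈ zpowers q)
    (h : ∀ Q ≤ P, P ⊓ centralizer (Q : Set G) ≤ Q → y ∈ Q →
      ∀ g ∈ normalizer (Q : Set G), ¬ p ∣ orderOf g → g ∈ centralizer (Q : Set G)) :
    IsNilBlk p (Cen q) (ebs M _ (sbl p P e q)) := by
  have := Fact.mk hM.1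
  have := charP_k hM
  have he' := maxPair_Tq he (zpowers_le_of_mem hq) (le_normalizer_of_le_Cen hc)
  obtain ⟨F, hF⟩ := he'.bpair.pair.exists_isBFS
  rw [← nil_Tq_iff hM he hq h2, hF.isNilBlk_iff he']
  have hS := hF.sat he'
  refine hS.eq_inner_of_pgroup fun Q hQ => ?_
  rcases hQ with rfl | hQ
  · exact isPGroup_autGroup hM hF he'.bpair.pair le_rfl (h _ le_rfl inf_le_left hy)
  have hQP := (hS.ess_lt hQ).le
  have hqQ : q ∈ Q := hS.ess_centric hQ ⟨hq, mem_centralizer_iff.2 fun u hu => mem_Cen.1 (hc (hQP hu))⟩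
  have h3 : ∀ x ∈ Cen q, ∀ u ∈ zpowers q, x * u * x⁻¹ = u := fun x hx u hu =>
    conj_eq_of_mem_centralizer (by rwa [centralizer_zpowers']) hu
  refine isPGroup_autGroup hM hF he'.bpair.pair hQP (h Q hQP (hS.ess_centric hQ) (hS.ess_mem₂ hQ
    (D := zpowers q) (fun α hα => Fus.mem_stab_of_maps (zpowers_le_of_mem hqQ) fun u hu => ?_)
    ⟨hy, Transfer.mem_normalizer_of_cj_le ?_⟩ (fun u hu => hyq u (hQP hu)) fun u _ hu => h3 y (hc hy) u hu))
  · obtain ⟨-, x, hx, h4, -⟩ := (hF _ _).1 (Fus.mor_fn hQP hα)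
    rw [Tq_eq hM he hq h2] at hx
    rwa [h4 u (zpowers_le_of_mem hqQ hu), h3 x hx u hu]
  · rintro _ ⟨u, hu, rfl⟩
    have := mul_mem hu (zpowers_le_of_mem hqQ (hyq u (hQP hu)))
    rwa [mul_inv_cancel_left] at this

end Fus

variable {M : Ideal AlgInt} {G : Type*} [Group G] [Finite G] {B : Set (IrrCharacter G)}
  {P : Subgroup G} {e : (k M)[G]}

theorem nil_of_dihedral (hM : IsPModular 2 M) (hB : IsPBlock M B) (hD : IsDefectGroup 2 M B P)
    {m : ℕ} {a b : ZMod (2 ^ m) → G} (h : DH P m a b) (hm : 2 ≤ m) (h1 : blockRank 2 B = 1) :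
    IsNilBlk 2 ⊤ (eb M B) := by
  classical
  have := charP_k hM
  have := Fintype.ofFinite P
  obtain ⟨e, he⟩ := exists_maxPair_of_defect hM hB hD
  have hp := he.bpair.pair
  obtain ⟨F, hF⟩ := hp.exists_isBFS
  have h2 := (dihedral_main hM hB he h hm).2.1
  refine he.isNilBlk_iff_ple.2 fun Q f hle x hx hodd => by_contra fun hc => ?_
  have h3 : ∀ l, orderOf (b l) = 2 := fun l => h.orderOf_b_eq_two.2 (by ring)
  have hz := zh_ne_zero h.one_le
  obtain ⟨l, rfl⟩ : ∃ l, Q = zpowers (a (zh m)) ⊔ zpowers (b l) := by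
    rcases h.odd_cases hle.le hx.1.1 (Nat.odd_iff.2 (by omega)) hc with ⟨l, -, h4⟩ | ⟨-, l, h4, -⟩
    · exact ⟨l, h4⟩
    · rw [h3] at h4; omega
  have h4 := fConj_of_mor hM hF he ((hF.mor_iff (φ := Fus.cj x) hp hle).2 ⟨x, trivial,
    fun _ _ => rfl, by rwa [cjs_eq_of_mem_normalizer hx.1.1, hx.2]⟩) (mem_sup_left (mem_zpowers _))
  obtain ⟨l', h5⟩ : ∃ l', FConj 2 P e (a (zh m)) (b l') := by
    rcases h.invol_cases h4.right ((FConj.orderOf_eq' h4).symm.trans h.orderOf_zh) with h5 | ⟨l', h5⟩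
    · refine absurd (cent_of_card (h.isPGroup.to_le (zpowers_le_of_mem (h.a_mem _))) le_sup_left
        (by rw [card_T h, Nat.card_zpowers, h.orderOf_zh]) hx.1.1 ?_ hodd) hc
      rw [centralizer_zpowers']
      exact mem_Cen.2 (mul_inv_eq_iff_eq_mul.1 h5)
    · exact ⟨l', h5 ▸ h4⟩
  have h6 : aO P e a ≤ 1 := by
    refine (Finset.sum_le_sum_of_subset_of_nonneg (fun u hu => ?_) fun _ _ _ => by positivity).trans
      (sum_inv_fcard hM hp (h.b_mem (l' + 1))).le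
    obtain ⟨i, hi⟩ := exists_b_of_out hM hp h hu
    obtain ⟨d, hd | hd⟩ := zm_even_or_odd (i - l')
    · refine absurd (h5.trans hM hp ?_) (mem_outs.1 hu _)
      rw [hi, show i = l' + 2 * d by rw [← hd]; ring]
      exact fConj_b hM hp h l' d
    · refine Finset.mem_filter.2 ⟨Finset.mem_univ _, ?_⟩
      rw [hi, show i = l' + 1 + 2 * d by rw [add_assoc, add_comm 1, ← hd]; ring]
      exact fConj_b hM hp h _ d
  rw [h1] at h2
  push_cast at h2
  linarith

theorem rank_le_of_card_le (hM : IsPModular 2 M) (hB : IsPBlock M B) (hD : IsDefectGroup 2 M B P)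
    (h : Nat.card P ≤ 4) : blockRank 2 B ≤ 3 := by
  rw [card_defectGroup hM hB hD] at h
  by_cases h0 : blockDefect 2 B = 0
  · rw [blockRank_eq_one_of_defect_zero hM hB h0]; omega
  have h1 := card_le_of_defect_le_two hM hB ((Nat.pow_le_pow_iff_right one_lt_two).1 (show _ ≤ 2 ^ 2 from h))
  have := blockRank_lt_card hM hB h0
  omega

theorem rank_le_of_meta (hM : IsPModular 2 M) (hB : IsPBlock M B) (hD : IsDefectGroup 2 M B P)
    (hm : IsMetacyclic P) (hh : ∀ n k : ℕ, Nonempty (P ≃* Multiplicative (Fin k → ZMod (2 ^ n))) →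
      IsCyclic P ∨ Nat.card P ≤ 4) : blockRank 2 B ≤ 3 := by
  have := charP_k hM
  have := Fintype.ofFinite P
  obtain ⟨e, he⟩ := exists_maxPair_of_defect hM hB hD
  have hp := he.bpair.pair
  by_cases h4 : Nat.card P ≤ 4
  · exact rank_le_of_card_le hM hB hD h4
  by_cases hc : IsCyclic P
  · rw [blockRank_eq_one_of_nil hM hB (nil_of_defGrp he.isDefGrp he.bpair.blk fun Q hQ x _ hx ho =>
      mem_centralizer_of_isCyclic (isCyclic_of_injective (inclusion hQ) (inclusion_injective hQ))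
        (hp.isP.to_le hQ) hx (Nat.odd_iff.2 (by omega)))]
    omega
  by_cases hd : ∃ m, Nonempty (P ≃* DihedralGroup m)
  · obtain ⟨m, ⟨φ⟩⟩ := hd
    have h1 : Nat.card P = 2 * m := (Nat.card_congr φ.toEquiv).trans DihedralGroup.nat_card
    obtain ⟨n, a, b, rfl, h⟩ := exists_dh hp.isP (by omega) φ
    have h2 : 2 ≤ n := by
      by_contra h2
      have := Nat.pow_le_pow_right two_pos (show n ≤ 1 by omega)
      omega
    have := (dihedral_main hM hB he h h2).2.1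
    have := aO_nonneg (P := P) (e := e) (a := a)
    exact_mod_cast (by linarith : (blockRank 2 B : ℝ) ≤ 3)
  by_cases hq : ∃ m, Nonempty (P ≃* QuaternionGroup m)
  · obtain ⟨m, ⟨φ⟩⟩ := hq
    have h0 : m ≠ 0 := by
      rintro rfl
      have := Finite.of_equiv _ φ.toEquiv
      have : Finite ℤ := Finite.of_injective (QuaternionGroup.a (n := 0)) fun _ _ h => by injection h
      exact not_finite ℤ
    have : NeZero m := ⟨h0⟩
    have h1 : Nat.card P = 4 * m := by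
      rw [Nat.card_congr φ.toEquiv, Nat.card_eq_fintype_card, QuaternionGroup.card]
    obtain ⟨n, -, rfl⟩ := (Nat.dvd_prime_pow Nat.prime_two).1
      (card_defectGroup hM hB hD ▸ h1 ▸ Dvd.intro_left 4 rfl)
    obtain ⟨a, b, h⟩ := exists_qt φ
    have h2 : n ≠ 0 := by rintro rfl; omega
    exact (quat_main hM hB he h (by omega) fun l => h.orderOf_b_eq_four.2 (by ring)).1
  by_cases hs : IsQuasiDihedral P
  · obtain ⟨m, a, b, h⟩ := exists_qd hs
    obtain ⟨-, -, -, r, h1, -, h2, -⟩ := qd_main hM hB he h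
    omega
  obtain ⟨F, hF⟩ := hp.exists_isBFS
  have hS := hF.sat he
  rw [blockRank_eq_one_of_nil hM hB ((hF.isNilBlk_iff he).2 (hS.eq_inner (hS.normal_of_meta
    (Fus.sc_top F) hm fun h => h.elim hd fun h => h.elim hq hs) (hS.autGroup_top_eq
    ((Fus.aut_two_of_meta hp.isP hm (fun ⟨n, k, h⟩ => (hh n k h).elim hc h4)
      fun e => hq ⟨2, e⟩).to_subgroup _)).le))]
  omega

omit [Finite G] in
theorem isMetacyclic_of {x y : G} (hx : x ∈ P) (hy : y ∈ P)
    (hn : P ≤ normalizer (zpowers x : Set G)) (h : ∀ g ∈ P, ∃ i : ℤ, g * (y ^ i)⁻¹ ∈ zpowers x) :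
    IsMetacyclic P := by
  have h1 := (normal_subgroupOf_iff_le_normalizer (zpowers_le_of_mem hx)).2 hn
  refine ⟨_, h1, (subgroupOfEquivOfLe (zpowers_le_of_mem hx)).isCyclic.2 inferInstance,
    ⟨QuotientGroup.mk ⟨y, hy⟩, fun g => ?_⟩⟩
  obtain ⟨g, rfl⟩ := QuotientGroup.mk_surjective g
  obtain ⟨i, hi⟩ := h g g.2
  refine ⟨i, ?_⟩
  simp only
  rw [← QuotientGroup.mk_zpow, eq_comm, QuotientGroup.eq_iff_div_mem, div_eq_mul_inv]
  exact hi

/-- `P` has a cyclic subgroup of index at most two. -/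
def CI2 (P : Subgroup G) : Prop :=
  ∃ x ∈ P, ∃ y ∈ P, ∀ g ∈ P, g ∈ zpowers x ∨ g * y⁻¹ ∈ zpowers x

theorem rank_le_of_ci2 (hM : IsPModular 2 M) (hB : IsPBlock M B) (hD : IsDefectGroup 2 M B P)
    (h : CI2 P) : blockRank 2 B ≤ 3 := by
  obtain ⟨x, hx, y, hy, h⟩ := h
  by_cases hyx : y ∈ zpowers x
  · have hP : P = zpowers x := le_antisymm (fun g hg => (h g hg).elim id fun h1 => by
      simpa using mul_mem h1 hyx) (zpowers_le_of_mem hx)
    exact rank_le_of_meta hM hB hD (isMetacyclic_of hx hx (hP ▸ le_normalizer)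
      fun g hg => ⟨0, by simpa [hP] using hg⟩) fun _ _ _ => Or.inl (hP ▸ inferInstance)
  have h1 : ((zpowers x).subgroupOf P).index = 2 := index_eq_two_iff.2 ⟨⟨y⁻¹, inv_mem hy⟩, fun g => by
    simp only [mem_subgroupOf, coe_mul]
    rcases h g g.2 with h1 | h1
    · exact Or.inr ⟨h1, fun h2 => hyx (inv_mem_iff.1 ((mul_mem_cancel_left h1).1 h2))⟩
    · exact Or.inl ⟨h1, fun h2 => hyx (inv_mem_iff.1 ((mul_mem_cancel_left h2).1 h1))⟩⟩
  refine rank_le_of_meta hM hB hD (isMetacyclic_of hx hy ((normal_subgroupOf_iff_le_normalizer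
    (zpowers_le_of_mem hx)).1 (normal_of_index_eq_two h1)) fun g hg => (h g hg).elim
      (fun h => ⟨0, by simpa using h⟩) fun h => ⟨1, by simpa using h⟩) fun n k ⟨φ⟩ => ?_
  have h2 := ((zpowers x).subgroupOf P).index_mul_card
  rw [h1, Nat.card_congr (subgroupOfEquivOfLe (zpowers_le_of_mem hx)).toEquiv, Nat.card_zpowers] at h2
  have h3 : orderOf x ≤ 2 ^ n := by
    refine orderOf_le_of_pow_eq_one (by positivity) ?_
    have h3 : φ (⟨x, hx⟩ ^ 2 ^ n) = 1 := by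
      rw [map_pow]
      refine Multiplicative.toAdd.injective (funext fun i => ?_)
      simp
    exact congrArg Subtype.val (φ.map_eq_one_iff.1 h3)
  have h4 : Nat.card P = (2 ^ n) ^ k := by
    rw [Nat.card_congr φ.toEquiv]; simp
  by_cases hk : k ≤ 1
  · refine Or.inl (φ.isCyclic.2 ?_)
    interval_cases k
    · exact isCyclic_of_subsingleton
    · exact ((AddEquiv.toMultiplicative (AddEquiv.funUnique (Fin 1) (ZMod (2 ^ n)))).isCyclic).2
        inferInstance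
  have h5 : (2 ^ n) ^ 2 ≤ (2 ^ n) ^ k := Nat.pow_le_pow_right (by positivity) (by omega)
  have h6 : 0 < 2 ^ n := by positivity
  exact Or.inr (by nlinarith)

end CF.BlockB
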