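import Cfsg.Agent.BlockB.Ix2

/-!
# The groups `D × C₂` and `D ⋊ C₄`
-/

namespace CF.BlockB

open Cfsg MonoidAlgebra Subgroup CF.Block CF.Invol

variable {G : Type*} [Group G]

theorem conj_eq_of_odd {g c : G} [Finite G] (hg : ¬ 2 ∣ orderOf g)
    (h : g * (g * c * g⁻¹) * g⁻¹ = c) : g * c * g⁻¹ = c := by
  have h1 : Commute (g ^ 2) c := by
    rw [pow_two, Commute, SemiconjBy]
    conv_rhs => rw [← h]
    group
  obtain ⟨k, hk⟩ : Odd (orderOf g) := Nat.odd_iff.2 (by omega)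
  have h2 := h1.pow_left (k + 1)
  rw [← pow_mul, show 2 * (k + 1) = orderOf g + 1 by omega, pow_succ, pow_orderOf_eq_one,
    one_mul] at h2
  rw [h2.eq, mul_inv_cancel_right]

theorem zpow_eq_one_of_two_pow {x : G} {m : ℕ} (hx : orderOf x = 2 ^ (m + 1)) {i : ℤ}
    (h : x ^ i * x ^ i = 1) : (2 : ℤ) ^ m ∣ i := by
  rw [← zpow_add, ← orderOf_dvd_iff_zpow_eq_one, hx, ← two_mul] at h
  push_cast at h
  rwa [pow_succ', mul_dvd_mul_iff_left two_ne_zero] at h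

theorem pow_half_mul_self {x : G} {m : ℕ} (hx : orderOf x = 2 ^ (m + 1)) :
    x ^ 2 ^ m * x ^ 2 ^ m = 1 := by
  rw [← pow_add, ← two_mul, ← pow_succ', ← hx, pow_orderOf_eq_one]

theorem pow_half_ne_one {x : G} {m : ℕ} (hx : orderOf x = 2 ^ (m + 1)) : x ^ 2 ^ m ≠ 1 :=
  pow_ne_one_of_lt_orderOf (by positivity) (hx ▸ Nat.pow_lt_pow_right one_lt_two m.lt_succ_self)

theorem eq_half_of_mul_self {x y : G} {m : ℕ} (hx : orderOf x = 2 ^ (m + 1)) (hy : y ∈ zpowers x)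
    (h : y * y = 1) : y = 1 ∨ y = x ^ 2 ^ m := by
  obtain ⟨i, rfl⟩ := hy
  obtain ⟨j, rfl⟩ := zpow_eq_one_of_two_pow hx h
  refine eq_or_of_mul_self (pow_half_mul_self hx) ⟨j, ?_⟩
  simp only [zpow_mul]
  norm_cast

theorem half_mem_zpowers {x y : G} {m : ℕ} (hx : orderOf x = 2 ^ (m + 1)) (hy : y ∈ zpowers x)
    (h : y ≠ 1) : x ^ 2 ^ m ∈ zpowers y := by
  obtain ⟨k, -, hk⟩ := (Nat.dvd_prime_pow Nat.prime_two).1 (hx ▸ orderOf_dvd_of_mem_zpowers hy)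
  obtain _ | k := k
  · exact absurd (orderOf_eq_one_iff.1 hk) h
  rw [← (eq_half_of_mul_self hx (pow_mem hy _) (pow_half_mul_self hk)).resolve_left
    (pow_half_ne_one hk)]
  exact npow_mem_zpowers _ _

/-- The groups `D × C₂` and `D ⋊ C₄`, of order `2 ^ (m + 4)`. -/
structure DX (P : Subgroup G) (m : ℕ) (x s t : G) : Prop where
  ox : orderOf x = 2 ^ (m + 2)
  ss : s * s = 1
  tt : t * t = 1
  xs : Commute x s
  ts : Commute t s
  tx : t * x * t⁻¹ * x = 1 ∨ t * x * t⁻¹ * x = s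
  sx : s ∉ zpowers x
  tA : t ∉ zpowers x ⊔ zpowers s
  xP : x ∈ P
  sP : s ∈ P
  tP : t ∈ P
  mem : ∀ g ∈ P, g ∈ zpowers x ⊔ zpowers s ∨ g * t ∈ zpowers x ⊔ zpowers s

namespace DX

variable {P Q : Subgroup G} {m : ℕ} {x s t a a' u v g : G} (h : DX P m x s t)
include h

local notation "A" => zpowers x ⊔ zpowers s
local notation "q₀" => x ^ 2 ^ (m + 1)

theorem s_norm : s ∈ normalizer (zpowers x : Set G) :=
  centralizer_le_normalizer _ (by rw [centralizer_zpowers']; exact mem_Cen.2 h.xs.symm.eq)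

theorem s_inv : s⁻¹ = s := inv_eq_of_mul_eq_one_right h.ss

theorem t_inv : t⁻¹ = t := inv_eq_of_mul_eq_one_right h.tt

theorem memA : a ∈ A ↔ ∃ i : ℤ, a = x ^ i ∨ a = x ^ i * s := by
  rw [mem_sup_zpowers_iff h.s_norm (h.ss ▸ one_mem _)]
  constructor
  · rintro (⟨i, hi⟩ | ⟨i, hi⟩)
    · exact ⟨i, Or.inl hi.symm⟩
    · exact ⟨i, Or.inr (mul_inv_eq_iff_eq_mul.1 hi.symm)⟩
  · rintro ⟨i, rfl | rfl⟩
    · exact Or.inl ⟨i, rfl⟩
    · exact Or.inr ⟨i, by simp⟩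

omit h in
theorem xA : x ∈ A := mem_sup_left (mem_zpowers x)

omit h in
theorem sA : s ∈ A := mem_sup_right (mem_zpowers s)

theorem A_le : A ≤ P := sup_le (zpowers_le_of_mem h.xP) (zpowers_le_of_mem h.sP)

theorem cardA : Nat.card (A : Subgroup G) = 2 ^ (m + 3) := by
  rw [card_sup_zpowers h.s_norm (h.ss ▸ one_mem _) h.sx, Nat.card_zpowers, h.ox]; ring

theorem comm_of (h1 : Commute x g) (h2 : Commute s g) (ha : a ∈ A) : Commute a g := by
  obtain ⟨i, rfl | rfl⟩ := h.memA.1 ha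
  exacts [h1.zpow_left i, (h1.zpow_left i).mul_left h2]

theorem comm (ha : a ∈ A) (ha' : a' ∈ A) : Commute a a' :=
  h.comm_of (h.comm_of (.refl x) h.xs.symm ha').symm (h.comm_of h.xs (.refl s) ha').symm ha

theorem conj_zpow_mul (i : ℤ) : t * x ^ i * t⁻¹ * x ^ i = (t * x * t⁻¹ * x) ^ i := by
  have h1 : Commute (t * x * t⁻¹ * x) x⁻¹ := by
    rcases h.tx with h1 | h1 <;> rw [h1]
    exacts [Commute.one_left _, h.xs.symm.inv_right]
  rw [← conj_zpow, ← mul_inv_cancel_right (t * x * t⁻¹) x, h1.mul_zpow, mul_inv_cancel_right,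
    inv_zpow, inv_mul_cancel_right]

theorem conj_mul_eq (ha : a ∈ A) : ∃ i : ℤ, (a = x ^ i ∨ a = x ^ i * s) ∧
    t * a * t⁻¹ * a = (t * x * t⁻¹ * x) ^ i := by
  obtain ⟨i, hi⟩ := h.memA.1 ha
  refine ⟨i, hi, ?_⟩
  rw [← h.conj_zpow_mul]
  rcases hi with rfl | rfl
  · rfl
  calc t * (x ^ i * s) * t⁻¹ * (x ^ i * s) = t * x ^ i * (s * t⁻¹) * (x ^ i * s) := by group
    _ = t * x ^ i * t⁻¹ * (s * s) * x ^ i := by
      rw [h.ts.symm.inv_right.eq, (h.xs.zpow_left i).eq]; group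
    _ = _ := by rw [h.ss, mul_one]

theorem conj_mul (ha : a ∈ A) : t * a * t⁻¹ * a = 1 ∨ t * a * t⁻¹ * a = s := by
  obtain ⟨i, -, hi⟩ := h.conj_mul_eq ha
  rw [hi]
  rcases h.tx with h1 | h1 <;> rw [h1]
  exacts [Or.inl (one_zpow i), eq_or_of_mul_self h.ss ⟨i, rfl⟩]

theorem conj_mem (ha : a ∈ A) : t * a * t⁻¹ ∈ A := by
  rw [← mul_mem_cancel_right ha]
  rcases h.conj_mul ha with h1 | h1 <;> rw [h1]
  exacts [one_mem _, sA]

theorem sq_eq (ha : a ∈ A) : ∃ i : ℤ, (a = x ^ i ∨ a = x ^ i * s) ∧ a * a = x ^ i * x ^ i := by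
  obtain ⟨i, rfl | rfl⟩ := h.memA.1 ha
  · exact ⟨i, Or.inl rfl, rfl⟩
  · refine ⟨i, Or.inr rfl, ?_⟩
    rw [mul_assoc, ← mul_assoc s, ← (h.xs.zpow_left i).eq, mul_assoc, h.ss, mul_one]

theorem sq_mem (ha : a ∈ A) : a * a ∈ zpowers x := by
  obtain ⟨i, -, hi⟩ := h.sq_eq ha
  rw [hi]; exact mul_mem ⟨i, rfl⟩ ⟨i, rfl⟩

theorem out (hu : u ∈ P) (huA : u ∉ A) : ∃ a ∈ A, u = a * t :=
  ⟨u * t, (h.mem u hu).resolve_left huA, by rw [mul_assoc, h.tt, mul_one]⟩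

theorem out_notMem (ha : a ∈ A) : a * t ∉ A := fun h1 => h.tA ((mul_mem_cancel_left ha).1 h1)

theorem out_sq (hu : u ∈ P) (huA : u ∉ A) : u * u = 1 ∨ u * u = s := by
  obtain ⟨a, ha, rfl⟩ := h.out hu huA
  rw [show a * t * (a * t) = a * (t * a * t⁻¹) by rw [h.t_inv]; group,
    (h.comm ha (h.conj_mem ha)).eq]
  exact h.conj_mul ha

theorem out_mul (hu : u ∈ P) (huA : u ∉ A) (hv : v ∈ P) (hvA : v ∉ A) : u * v ∈ A := by
  obtain ⟨a, ha, rfl⟩ := h.out hu huA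
  obtain ⟨a', ha', rfl⟩ := h.out hv hvA
  rw [show a * t * (a' * t) = a * (t * a' * t⁻¹) by rw [h.t_inv]; group]
  exact mul_mem ha (h.conj_mem ha')

theorem conj_cases (hu : u ∈ P) (ha : a ∈ A) : u * a * u⁻¹ = a ∨ u * a * u⁻¹ = t * a * t⁻¹ := by
  by_cases huA : u ∈ A
  · exact Or.inl (by rw [(h.comm huA ha).eq, mul_inv_cancel_right])
  obtain ⟨a', ha', rfl⟩ := h.out hu huA
  right
  rw [show a' * t * a * (a' * t)⁻¹ = a' * (t * a * t⁻¹) * a'⁻¹ by group,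
    (h.comm ha' (h.conj_mem ha)).eq, mul_inv_cancel_right]

theorem le_norm : P ≤ normalizer ((A : Subgroup G) : Set G) := fun u hu => by
  have h1 : ∀ u ∈ P, ∀ a ∈ A, u * a * u⁻¹ ∈ A := fun u hu a ha => by
    rcases h.conj_cases hu ha with h1 | h1 <;> rw [h1]
    exacts [ha, h.conj_mem ha]
  exact mem_normalizer_iff.2 fun a => ⟨h1 u hu a, fun h2 => by
    simpa [mul_assoc] using h1 _ (inv_mem hu) _ h2⟩

theorem cardP : Nat.card P = 2 ^ (m + 4) := by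
  have h1 : P = A ⊔ zpowers t := le_antisymm (fun g hg => (mem_sup_zpowers_iff (h.le_norm h.tP)
    (h.tt ▸ one_mem _)).2 (h.t_inv.symm ▸ h.mem g hg)) (sup_le h.A_le (zpowers_le_of_mem h.tP))
  rw [h1, card_sup_zpowers (h.le_norm h.tP) (h.tt ▸ one_mem _) h.tA, h.cardA]; ring

theorem sq_of_comm (ha : a ∈ A) (hu : u ∈ P) (huA : u ∉ A) (hc : Commute u a) : a * a = 1 := by
  obtain ⟨a', ha', rfl⟩ := h.out hu huA
  have h1 : Commute t a := by simpa using (h.comm (inv_mem ha') ha).mul_left hc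
  have h2 := h.conj_mul ha
  rw [h1.eq, mul_inv_cancel_right] at h2
  exact h2.resolve_right fun h3 => h.sx (h3 ▸ h.sq_mem ha)

theorem central (ha : a ∈ A) (h2 : a * a = 1) (hu : u ∈ P) : Commute u a := by
  have h1 : t * a * t⁻¹ * a = 1 := by
    obtain ⟨i, hi, h3⟩ := h.conj_mul_eq ha
    have h4 : x ^ i * x ^ i = 1 := by
      rcases hi with rfl | rfl
      · exact h2
      · rwa [mul_assoc, ← mul_assoc s, ← (h.xs.zpow_left i).eq, mul_assoc, h.ss, mul_one] at h2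
    obtain ⟨j, rfl⟩ := zpow_eq_one_of_two_pow h.ox h4
    rw [h3, pow_succ', mul_assoc (2 : ℤ), zpow_mul, zpow_two]
    rcases h.tx with h5 | h5 <;> rw [h5]
    exacts [by simp, by rw [h.ss, one_zpow]]
  have h3 : t * a * t⁻¹ = a := mul_right_cancel (h1.trans h2.symm)
  exact mul_inv_eq_iff_eq_mul.1 ((h.conj_cases hu ha).elim id (·.trans h3))

theorem q_sq : q₀ * q₀ = 1 := pow_half_mul_self h.ox

theorem q_ne : q₀ ≠ 1 := pow_half_ne_one h.ox

omit h in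
theorem qA : q₀ ∈ A := pow_mem xA _

theorem invol (ha : a ∈ A) (h2 : a * a = 1) : a = 1 ∨ a = q₀ ∨ a = s ∨ a = q₀ * s := by
  obtain ⟨i, hi, h3⟩ := h.sq_eq ha
  rcases eq_half_of_mul_self h.ox ⟨i, rfl⟩ (h3.symm.trans h2) with h4 | h4 <;> simp only at h4 <;>
    rcases hi with rfl | rfl <;> simp [h4]

theorem qs_sq : q₀ * s * (q₀ * s) = 1 := by
  rw [mul_assoc, ← mul_assoc s, ← (h.xs.pow_left _).eq, mul_assoc, h.ss, mul_one, h.q_sq]

theorem qs_notMem : q₀ * s ∉ zpowers x := fun h1 =>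
  h.sx ((mul_mem_cancel_left (npow_mem_zpowers x _)).1 h1)

theorem sq_cases (hu : u ∈ P) (h1 : u * u ≠ 1) (h2 : u * u * (u * u) = 1) :
    u * u = q₀ ∨ u * u = s := by
  by_cases huA : u ∈ A
  · exact Or.inl ((eq_half_of_mul_self h.ox (h.sq_mem huA) h2).resolve_left h1)
  · exact Or.inr ((h.out_sq hu huA).resolve_left h1)

theorem inf_Cen (ha : a ∈ A) (h2 : a * a ≠ 1) : P ⊓ Cen a = A :=
  le_antisymm (fun u hu => by_contra fun huA => h2 (h.sq_of_comm ha hu.1 huA (mem_Cen.1 hu.2)))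
    fun _ ha' => ⟨h.A_le ha', mem_Cen.2 (h.comm ha' ha).eq⟩

theorem le_Cen (ha : a ∈ A) (h2 : a * a = 1) : P ≤ Cen a := fun _ hu =>
  mem_Cen.2 (h.central ha h2 hu).eq

theorem card_Cen_out (hu : u ∈ P) (huA : u ∉ A) : Nat.card (P ⊓ Cen u : Subgroup G) ≤ 8 := by
  classical
  let T : Finset G := {1, q₀, s, q₀ * s}
  have h1 : ∀ a ∈ A, Commute u a → a ∈ T := fun a ha hc => by
    simpa [T] using h.invol ha (h.sq_of_comm ha hu huA hc)
  have h2 : ((P ⊓ Cen u : Subgroup G) : Set G) ⊆ (T ∪ T.image (· * u) : Finset G) := fun g hg => by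
    have hc : Commute u g := (mem_Cen.1 hg.2).symm
    rw [Finset.mem_coe, Finset.mem_union]
    by_cases hgA : g ∈ A
    · exact Or.inl (h1 g hgA hc)
    · exact Or.inr (Finset.mem_image.2 ⟨g * u⁻¹, h1 _ (h.out_mul hg.1 hgA (inv_mem hu)
        (by rwa [inv_mem_iff])) (hc.mul_right (Commute.refl u).inv_right), by simp⟩)
  have h3 : T.card ≤ 4 := Finset.card_le_four
  have h4 := Finset.card_image_le (s := T) (f := (· * u))
  have h5 := Finset.card_union_le T (T.image (· * u))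
  have h6 := Set.ncard_le_ncard h2 (Finset.finite_toSet _)
  rw [Set.ncard_coe_finset] at h6
  exact (h6.trans' (Nat.card_coe_set_eq _).le).trans (by omega)

variable [Finite G]

theorem cent_of_odd (hP : IsPGroup 2 P) (hQ : Q ≤ P) (hq : q₀ ∈ Q) (hs : s ∈ Q) (ha : a ∈ A)
    (haQ : a ∈ Q) (h2 : a * a ≠ 1) (hg : g ∈ normalizer (Q : Set G)) (ho : ¬ 2 ∣ orderOf g) :
    g ∈ centralizer (Q : Set G) := by
  have hn : ∀ u ∈ Q, g * u * g⁻¹ ∈ Q := fun u hu => (mem_normalizer_iff.1 hg u).1 hu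
  have hsq : ∀ u : G, g * u * g⁻¹ * (g * u * g⁻¹) = g * (u * u) * g⁻¹ := fun u => by group
  have h1 : ∀ c ∈ Q, c ∈ A → c * c = 1 → g * c * g⁻¹ ∈ A := fun c hc hcA hcc => by
    by_contra h3
    refine h2 (h.sq_of_comm ha (hQ (hn c hc)) h3 ?_)
    have h4 := h.central hcA hcc (hQ ((mem_normalizer_iff''.1 hg a).1 haQ))
    have h5 := congrArg (fun y => g * y * g⁻¹) h4.eq
    simp only [← mul_assoc, mul_inv_cancel, mul_inv_cancel_right, one_mul] at h5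
    rw [Commute, SemiconjBy, ← mul_assoc, ← mul_assoc, h5]
  obtain ⟨y, hy, hyq⟩ : ∃ y ∈ Q, y * y = q₀ := by
    obtain ⟨i, hi⟩ := half_mem_zpowers h.ox (h.sq_mem ha) h2
    exact ⟨a ^ i, zpow_mem haQ i, by rw [← hi, ← (Commute.refl a).mul_zpow]⟩
  have h3 : ∀ y ∈ Q, y * y ≠ 1 → y * y * (y * y) = 1 →
      g * (y * y) * g⁻¹ = q₀ ∨ g * (y * y) * g⁻¹ = s := fun y hy h3 h4 => by
    rw [← hsq]
    refine h.sq_cases (hQ (hn y hy)) (by rwa [hsq, Ne, conj_eq_one_iff]) ?_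
    rw [hsq, hsq, h4, mul_one, mul_inv_cancel]
  have hgq : g * q₀ * g⁻¹ = q₀ := by
    have h4 := h3 y hy (hyq ▸ h.q_ne) (hyq ▸ h.q_sq)
    have h5 := h3 _ (hn y hy) (by rw [hsq, hyq, Ne, conj_eq_one_iff]; exact h.q_ne)
      (by rw [hsq, hsq, hyq, h.q_sq, mul_one, mul_inv_cancel])
    rw [hsq, hyq] at h5
    rw [hyq] at h4
    refine h4.elim id fun h4 => conj_eq_of_odd ho (h5.resolve_right fun h5 => h.sx ?_)
    rw [← h4, mul_left_inj, mul_right_inj, h4] at h5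
    exact h5 ▸ npow_mem_zpowers x _
  have hgs : g * s * g⁻¹ = s := by
    rcases h.invol (h1 s hs sA h.ss) (by rw [hsq, h.ss, mul_one, mul_inv_cancel]) with
      h4 | h4 | h4 | h4
    · exact absurd (conj_eq_one_iff.1 h4 ▸ one_mem _) h.sx
    · rw [← hgq, mul_left_inj, mul_right_inj] at h4
      exact absurd (h4 ▸ npow_mem_zpowers x _) h.sx
    · exact h4
    · refine conj_eq_of_odd ho ?_
      rw [h4, show g * (q₀ * s) * g⁻¹ = g * q₀ * g⁻¹ * (g * s * g⁻¹) by group, hgq, h4,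
        ← mul_assoc, h.q_sq, one_mul]
  have h4 : ∀ c ∈ A, c * c = 1 → g * c * g⁻¹ = c := fun c hc hcc => by
    rcases h.invol hc hcc with rfl | rfl | rfl | rfl
    exacts [by simp, hgq, hgs, by
      rw [show g * (q₀ * s) * g⁻¹ = g * q₀ * g⁻¹ * (g * s * g⁻¹) by group, hgq, hgs]]
  have h5 : ∀ c ∈ Q, c ∈ A → g * c * g⁻¹ ∈ A := fun c hc hcA => by
    by_contra h5
    rcases h.out_sq (hQ (hn c hc)) h5 with h6 | h6 <;> rw [hsq] at h6
    · exact h5 (h1 c hc hcA (conj_eq_one_iff.1 h6))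
    · rw [← hgs, mul_left_inj, mul_right_inj] at h6
      exact h.sx (h6 ▸ h.sq_mem hcA)
  have h6 : ∀ n : ℕ, ∀ c ∈ Q, c ∈ A → c ^ 2 ^ n = 1 → g * c * g⁻¹ = c := fun n => by
    induction n with
    | zero => intro c _ _ h6; simp_all
    | succ n ih =>
      intro c hc hcA h6
      have h7 := ih (c * c) (mul_mem hc hc) (mul_mem hcA hcA) (by rw [← pow_two, ← pow_mul, ← pow_succ', h6])
      have h8 := h5 c hc hcA
      have h9 := h4 _ (mul_mem (inv_mem hcA) h8) (by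
        rw [mul_assoc, ← mul_assoc (g * c * g⁻¹), (h.comm h8 (inv_mem hcA)).eq, mul_assoc c⁻¹, hsq, h7]
        group)
      refine conj_eq_of_odd ho ?_
      calc g * (g * c * g⁻¹) * g⁻¹ = g * c * g⁻¹ * (g * (c⁻¹ * (g * c * g⁻¹)) * g⁻¹) := by group
        _ = c⁻¹ * (g * c * g⁻¹ * (g * c * g⁻¹)) := by
          rw [h9, ← mul_assoc, (h.comm h8 (inv_mem hcA)).eq, mul_assoc c⁻¹]
        _ = c := by rw [hsq, h7, inv_mul_cancel_left]
  have h7 : ∀ c ∈ Q, c ∈ A → g * c * g⁻¹ = c := fun c hc hcA =>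
    let ⟨n, hn⟩ := hP ⟨c, hQ hc⟩; h6 n c hc hcA (congrArg Subtype.val hn)
  refine mem_centralizer_of_conj_mem Nat.prime_two (R := Q ⊓ A) (hP.to_le (inf_le_left.trans hQ)) ho
    (mem_centralizer_of_conj_eq fun c hc => h7 c hc.1 hc.2) fun u hu =>
      mem_inf.2 ⟨mul_mem (inv_mem hu) (hn u hu), ?_⟩
  by_cases huA : u ∈ A
  · exact mul_mem (inv_mem huA) (h5 u hu huA)
  refine h.out_mul (inv_mem (hQ hu)) (by rwa [inv_mem_iff]) (hQ (hn u hu)) fun h8 => huA ?_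
  have h9 := h7 _ (hn u hu) h8
  rw [mul_inv_eq_iff_eq_mul, mul_assoc (g * u), inv_mul_cancel, mul_one, mul_right_inj] at h9
  exact h9 ▸ h8

end DX

end CF.BlockB
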