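import Cfsg.Agent.BlockB.Ix3

/-!
# Blocks with defect groups `D × C₂` and `D ⋊ C₄` have at most four Brauer characters
-/

namespace CF.BlockB

open Cfsg MonoidAlgebra Subgroup CF.Block CF.Invol
open scoped ComplexConjugate

variable {M : Ideal AlgInt} {G : Type*} [Group G] [Finite G] {B : Set (IrrCharacter G)}
  {P : Subgroup G} {e : (k M)[G]}

theorem exists_fc {p : ℕ} (hM : IsPModular p M) (he : IsPair p ⊤ P e) {u : G} (hu : u ∈ P) :
    ∃ w, FConj p P e u w ∧ ∀ v, FConj p P e w v →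
      Nat.card (P ⊓ Cen v : Subgroup G) ≤ Nat.card (P ⊓ Cen w : Subgroup G) := by
  obtain ⟨w, h1, h2⟩ := Set.exists_max_image {w | FConj p P e u w}
    (fun w => Nat.card (P ⊓ Cen w : Subgroup G)) (Set.toFinite _) ⟨u, FConj.refl hM he hu⟩
  exact ⟨w, h1, fun v hv => h2 v (h1.trans hM he hv)⟩

theorem FConj.mul_self_iff {p : ℕ} {u w : G} (h : FConj p P e u w) : u * u = 1 ↔ w * w = 1 := by
  rw [← pow_two, ← pow_two, ← orderOf_dvd_iff_pow_eq_one, ← orderOf_dvd_iff_pow_eq_one,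
    FConj.orderOf_eq' h]

theorem FConj.mul_self {p : ℕ} (hM : IsPModular p M) {b : (k M)[G]} (he : MaxPair p ⊤ b P e)
    {u w : G} (h : FConj p P e u w) : FConj p P e (u * u) (w * w) := by
  have := Fact.mk hM.1
  have := charP_k hM
  obtain ⟨F, hF⟩ := he.bpair.pair.exists_isBFS
  obtain ⟨g, f, rfl, h1, h2⟩ := h
  have h3 := fConj_of_mor hM hF he ((hF.mor_iff (φ := Fus.cj g) he.bpair.pair h1).2
    ⟨g, trivial, fun _ _ => rfl, by rwa [cjs_zpowers]⟩) (mul_mem (mem_zpowers u) (mem_zpowers u))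
  rwa [Fus.cj_apply, ← conj_mul] at h3

omit [Finite G] in
theorem card_range_mul {D : Subgroup G} {K : Type*} [Group K] {ρ : D →* K} {u : G} (hu : u ∈ D)
    (h : ∀ g, ρ g = 1 ↔ (g : G) ∈ zpowers u) : Nat.card ρ.range * orderOf u = Nat.card D := by
  have h1 : ρ.ker = (zpowers u).subgroupOf D := by ext g; exact h g
  rw [← ρ.ker.index_mul_card, index_ker, h1,
    Nat.card_congr (subgroupOfEquivOfLe (zpowers_le_of_mem hu)).toEquiv, Nat.card_zpowers]

namespace DX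

variable {m : ℕ} {x s t a a' u w : G} (h : DX P m x s t) (hM : IsPModular 2 M)
  (hB : IsPBlock M B) (he : MaxPair 2 ⊤ (eb M B) P e)

local notation "A" => zpowers x ⊔ zpowers s
local notation "q₀" => x ^ 2 ^ (m + 1)

include h

omit [Finite G] in
theorem exists_q : ∃ q, (q = q₀ ∨ (q = q₀ * s ∧ t * x * t⁻¹ * x = s)) ∧
    ∀ u ∈ P, u⁻¹ * (x ^ 2 ^ m * u * (x ^ 2 ^ m)⁻¹) ∈ zpowers q := by
  have hy : x ^ 2 ^ m ∈ A := pow_mem xA _
  have h1 : x ^ 2 ^ m * x ^ 2 ^ m = q₀ := by rw [← pow_add, ← two_mul, ← pow_succ']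
  have h0 : q₀⁻¹ = q₀ := inv_eq_of_mul_eq_one_right h.q_sq
  have h2 : t * x ^ 2 ^ m * t⁻¹ * (x ^ 2 ^ m)⁻¹ = (t * x * t⁻¹ * x) ^ ((2 ^ m : ℕ) : ℤ) * q₀ := by
    rw [← h.conj_zpow_mul, ← h0, ← h1, zpow_natCast]; group
  refine ⟨t * x ^ 2 ^ m * t⁻¹ * (x ^ 2 ^ m)⁻¹, ?_, fun u hu => ?_⟩
  · rw [h2]
    rcases h.tx with h3 | h3
    · simp [h3]
    · rw [h3]
      rcases eq_or_of_mul_self h.ss (⟨_, rfl⟩ : s ^ ((2 ^ m : ℕ) : ℤ) ∈ zpowers s) with h4 | h4 <;>
        rw [h4]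
      exacts [Or.inl (one_mul _), Or.inr ⟨(h.xs.pow_left _).eq.symm, rfl⟩]
  · rw [show u⁻¹ * (x ^ 2 ^ m * u * (x ^ 2 ^ m)⁻¹) = u⁻¹ * x ^ 2 ^ m * u⁻¹⁻¹ * (x ^ 2 ^ m)⁻¹ by group]
    rcases h.conj_cases (inv_mem hu) hy with h3 | h3 <;> rw [h3]
    exacts [by simp, mem_zpowers _]

include hM he

theorem nil_q {q : G} (hq : q = q₀ ∨ q = q₀ * s)
    (hy : ∀ u ∈ P, u⁻¹ * (x ^ 2 ^ m * u * (x ^ 2 ^ m)⁻¹) ∈ zpowers q) :
    IsNilBlk 2 (Cen q) (ebs M _ (sbl 2 P e q)) := by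
  have h1 : q ∈ A ∧ q * q = 1 := by
    rcases hq with rfl | rfl
    exacts [⟨qA, h.q_sq⟩, ⟨mul_mem qA sA, h.qs_sq⟩]
  have h2 : ∀ Q ≤ P, ∀ c ∈ A, c * c = 1 → c ∈ P ⊓ centralizer (Q : Set G) := fun Q hQ c hc h2 =>
    ⟨h.A_le hc, mem_centralizer_iff.2 fun u hu => (h.central hc h2 (hQ hu)).eq⟩
  exact nil_of_cent hM he (h.A_le h1.1) (h.le_Cen h1.1 h1.2) h1.2 (pow_mem h.xP _) hy
    fun Q hQ hc hyQ g hg ho => h.cent_of_odd he.bpair.pair.isP hQ (hc (h2 Q hQ _ qA h.q_sq))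
      (hc (h2 Q hQ _ sA h.ss)) (pow_mem xA _) hyQ
      (by rw [← pow_add, ← two_mul, ← pow_succ']; exact h.q_ne) hg ho

theorem fc_A (ha : a ∈ A) (v : G) (hv : FConj 2 P e a v) :
    Nat.card (P ⊓ Cen v : Subgroup G) ≤ Nat.card (P ⊓ Cen a : Subgroup G) := by
  by_cases h1 : a * a = 1
  · rw [inf_eq_left.2 (h.le_Cen ha h1)]; exact card_le_of_le inf_le_left
  rw [h.inf_Cen ha h1]
  by_cases hvA : v ∈ A
  · rw [h.inf_Cen hvA (mt (FConj.mul_self_iff hv).2 h1)]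
  · rw [h.cardA]
    exact (h.card_Cen_out hv.right hvA).trans
      (Nat.pow_le_pow_right two_pos (by omega : 3 ≤ m + 3))

theorem fConj_A (ha : a ∈ A) (ha' : a' ∈ A) (hc : FConj 2 P e a a') :
    a' = a ∨ a' = t * a * t⁻¹ := by
  have := charP_k hM
  obtain ⟨F, hF⟩ := he.bpair.pair.exists_isBFS
  obtain ⟨φ, h1, h2⟩ := exists_ext hM hF he hc (h.fc_A hM he ha')
  have h3 : P ⊓ Cen a' = P ⊓ Cen a ∧ P ≤ normalizer ((P ⊓ Cen a : Subgroup G) : Set G) := by
    by_cases h3 : a * a = 1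
    · rw [inf_eq_left.2 (h.le_Cen ha h3),
        inf_eq_left.2 (h.le_Cen ha' ((FConj.mul_self_iff hc).1 h3))]
      exact ⟨rfl, le_normalizer⟩
    · rw [h.inf_Cen ha h3, h.inf_Cen ha' (mt (FConj.mul_self_iff hc).2 h3)]
      exact ⟨rfl, h.le_norm⟩
  have h4 : A ≤ P ⊓ Cen a := fun c hc => ⟨h.A_le hc, mem_Cen.2 (h.comm hc ha).eq⟩
  obtain ⟨u, hu, h5⟩ := agree_of_norm hM hF he h3.2 (fun g hg ho => h.cent_of_odd
    he.bpair.pair.isP inf_le_left (h4 qA) (h4 sA) xA (h4 xA) (fun h5 => h.q_ne (by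
      rw [pow_succ', pow_mul, pow_two, h5, one_pow])) hg ho) h1 fun u hu => h3.1 ▸
        ⟨h1.maps hu, mem_Cen.2 (by
          rw [← h2, ← h1.mul hu (h4 ha), ← h1.mul (h4 ha) hu, mem_Cen.1 hu.2])⟩
  rw [← h2, h5 a (h4 ha)]
  exact h.conj_cases hu ha

theorem fConj_Z (ha : a ∈ A) (h2 : a * a = 1) (ha' : a' ∈ A) (hc : FConj 2 P e a a') : a' = a :=
  (h.fConj_A hM he ha ha' hc).elim id (·.trans (by
    rw [(h.central ha h2 h.tP).eq, mul_inv_cancel_right]))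

include hB

theorem count [Fintype P] [DecidablePred fun u : P => ∀ a ∈ A, ¬ FConj 2 P e a u] :
    (blockRank 2 B : ℝ) + blockRank 2 (sbl 2 P e q₀) + blockRank 2 (sbl 2 P e s) +
      blockRank 2 (sbl 2 P e (q₀ * s)) + (2 ^ (m + 2) - 2) +
      ∑ u ∈ Finset.univ.filter (fun u : P => ∀ a ∈ A, ¬ FConj 2 P e a u), (1 : ℝ) / fcard 2 P e u ≤
      Nat.card B := by
  classical
  have := Fintype.ofFinite (A : Subgroup G)
  have hp := he.bpair.pair
  have hr : ∀ u ∈ P, (1 : ℝ) ≤ blockRank 2 (sbl 2 P e u) := fun u hu =>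
    Nat.one_le_cast.2 (blockRank_pos hM.1 (block_nonempty hM (sbl_spec hM hp hu).1))
  have h1 := card_eq_sum_rank hM hB he
  rw [sum_div_fcard_eq hM hp (f := fun a : (A : Subgroup G) => (a : G)) (fun a => h.A_le a.2)
    (fStable_rank hM hB he.bpair)] at h1
  have h2 : (Nat.card B : ℝ) = ∑ a : (A : Subgroup G), (blockRank 2 (sbl 2 P e a) : ℝ) /
      (Finset.univ.filter fun i : (A : Subgroup G) => FConj 2 P e a i).card +
      ∑ u ∈ Finset.univ.filter (fun u : P => ∀ a : (A : Subgroup G), ¬ FConj 2 P e a u),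
        (blockRank 2 (sbl 2 P e u) : ℝ) / fcard 2 P e u :=
    Complex.ofReal_injective (by push_cast; exact h1)
  rw [h2]
  refine add_le_add ?_ ((Finset.sum_congr (by ext; simp) fun _ _ => rfl).trans_le
    (Finset.sum_le_sum fun u _ => div_le_div_of_nonneg_right (hr u u.2) (Nat.cast_nonneg _)))
  let Z : Finset (A : Subgroup G) := {1, ⟨q₀, qA⟩, ⟨s, sA⟩, ⟨q₀ * s, mul_mem qA sA⟩}
  have h3 : ∀ a : (A : Subgroup G), (1 / 2 + if a ∈ Z then
      (blockRank 2 (sbl 2 P e a) : ℝ) - 1 / 2 else 0) ≤ (blockRank 2 (sbl 2 P e a) : ℝ) /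
      (Finset.univ.filter fun i : (A : Subgroup G) => FConj 2 P e a i).card := fun a => by
    have h3 : a ∈ Finset.univ.filter fun i : (A : Subgroup G) => FConj 2 P e a i := by
      simpa using FConj.refl hM hp (h.A_le a.2)
    split_ifs with h4
    · have h5 : (a : G) * a = 1 := by
        simp only [Z, Finset.mem_insert, Finset.mem_singleton] at h4
        rcases h4 with rfl | rfl | rfl | rfl
        exacts [by simp, h.q_sq, h.ss, h.qs_sq]
      rw [Finset.eq_singleton_iff_unique_mem.2 ⟨h3, fun i hi => Subtype.ext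
        (h.fConj_Z hM he a.2 h5 i.2 (Finset.mem_filter.1 hi).2)⟩]
      simp
    · have h5 : (Finset.univ.filter fun i : (A : Subgroup G) => FConj 2 P e a i).card ≤ 2 :=
        (Finset.card_le_card (t := {a, ⟨_, h.conj_mem a.2⟩}) fun i hi => by
          rw [Finset.mem_insert, Finset.mem_singleton]
          exact (h.fConj_A hM he a.2 i.2 (Finset.mem_filter.1 hi).2).imp Subtype.ext Subtype.ext).trans
          Finset.card_le_two
      rw [add_zero]
      exact div_le_div₀ (Nat.cast_nonneg _) (hr _ (h.A_le a.2))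
        (Nat.cast_pos.2 (Finset.card_pos.2 ⟨a, h3⟩)) (by exact_mod_cast h5)
  refine le_trans (le_of_eq ?_) (Finset.sum_le_sum fun a _ => h3 a)
  have n1 : s ≠ 1 := fun h4 => h.sx (h4 ▸ one_mem _)
  have n2 : q₀ * s ≠ 1 := fun h4 => h.qs_notMem (h4 ▸ one_mem _)
  have n3 : q₀ ≠ s := fun h4 => h.sx (h4 ▸ npow_mem_zpowers x _)
  rw [Finset.sum_add_distrib, Finset.sum_ite_mem, Finset.univ_inter, Finset.sum_const,
    Finset.card_univ, ← Nat.card_eq_fintype_card, h.cardA, Finset.sum_insert (by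
      simp [Subtype.ext_iff, h.q_ne.symm, n1.symm, n2.symm]), Finset.sum_insert (by
      simp [Subtype.ext_iff, n1, n3]), Finset.sum_pair (by simp [Subtype.ext_iff, h.q_ne]),
    OneMemClass.coe_one, blockRank_sbl_one hM hB he.bpair]
  simp only [nsmul_eq_mul]
  push_cast
  ring

theorem kz_le_of_out (hu : u ∈ P) (hA : ∀ a ∈ A, ¬ FConj 2 P e a u) : kz B ≤ 8 := by
  have hp := he.bpair.pair
  obtain ⟨w, h1, h2⟩ := exists_fc hM hp hu
  have hw : w ∉ A := fun h3 => hA w h3 h1.symm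
  have h3 := isDefGrp_sbl hM he h1.right h2
  obtain ⟨K, _, _, ρ, b, h4, h5, h6, h7, -⟩ := exists_quot hM hp h1.right h3
  have h8 := h.card_Cen_out h1.right hw
  have h9 := card_range_mul (mem_inf.2 ⟨h1.right, self_mem_Cen w⟩) h7
  have h10 : 1 < orderOf w := Nat.one_lt_iff_ne_zero_and_ne_one.2 ⟨(orderOf_pos w).ne',
    fun h10 => hw (orderOf_eq_one_iff.1 h10 ▸ one_mem _)⟩
  refine (kz_le_of_rank hM (exists_orderOf_of_mem hM.1 hp.isP h1.right)
    (isInducedBlock_sbl hM hB he.bpair h1.right) (h6 ▸ rank_le_of_card_le hM h4 h5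
      (by nlinarith))).trans ?_
  rwa [← h3.card_eq_pow_sub hM (sbl_spec hM hp h1.right).1]

theorem kz_le_of_inv (h1 : t * x * t⁻¹ * x = 1) : kz B ≤ 8 := by
  classical
  have := Fintype.ofFinite G
  have := Fintype.ofFinite P
  have hp := he.bpair.pair
  obtain ⟨q, hq, hy⟩ := h.exists_q
  obtain rfl : q = q₀ := hq.resolve_right fun h2 => h.sx (h2.2 ▸ h1 ▸ one_mem _)
  have hn := le_normalizer_of_le_Cen (h.le_Cen qA h.q_sq)
  have hqP := h.A_le (qA (m := m))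
  have hnil := (nil_Tq_iff hM he hqP h.q_sq).2 (h.nil_q hM he (Or.inl rfl) hy)
  obtain ⟨τ, hτ⟩ := exists_nd hM hB he hqP hn hnil
  have hx : x ^ 2 ^ (m + 2) = 1 := h.ox ▸ pow_orderOf_eq_one x
  have hm : 1 ≤ m + 2 := by omega
  set a : ZMod (2 ^ (m + 2)) → G := zmodPow x
  have a0 : a 0 = 1 := by simpa using zmodPow_intCast hx 0
  have aA : ∀ j, a j ∈ A := fun j => mem_sup_left (zmodPow_mem_zpowers x j)
  have aP : ∀ j, a j ∈ P := fun j => h.A_le (aA j)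
  have ainj : Function.Injective a := zmodPow_injective h.ox
  have at' : ∀ j, t * a j * t⁻¹ = a (-1 * j) := fun j => by
    have h2 := h.conj_zpow_mul (j.cast : ℤ)
    rw [h1, one_zpow] at h2
    refine mul_right_cancel (h2.trans ?_)
    rw [← a0, show (0 : ZMod (2 ^ (m + 2))) = -1 * j + j by ring]
    exact zmodPow_add hx _ _
  have a2 : ∀ j, zh (m + 2) * j ≠ 0 → a j * a j ≠ 1 := fun j hj h2 =>
    odd_two_mul_ne (by omega) hj (ainj (by rw [two_mul, a0, ← h2]; exact zmodPow_add hx _ _))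
  have aq : ∀ j, zh (m + 2) * j ≠ 0 → q₀ ∈ zpowers (a j) := fun j hj =>
    half_mem_zpowers h.ox (zmodPow_mem_zpowers x j) fun h2 => a2 j hj (by rw [h2, mul_one])
  have key : ∀ χ : IrrCharacter G, ∃ n : ZMod (2 ^ (m + 2)) → ℤ, (∀ j, zh (m + 2) * j ≠ 0 →
      classInner (χ : G → ℂ) (τ (a j)) = fo n j) ∧ ∀ i, n (-1 * i) = n i := fun χ => by
    obtain ⟨δ, h2, h3⟩ := hτ.gen χ (Char.gen_of_irr χ.2)
    have h4 : ∀ i, ∃ n : ℤ, fc (fun j => δ ⟨a j, aP j⟩) i = n := fun i => by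
      let φ : Multiplicative (ZMod (2 ^ (m + 2))) →* P := ⟨⟨fun j => ⟨a j.toAdd, aP _⟩,
        Subtype.ext a0⟩, fun j l => Subtype.ext (zmodPow_add hx _ _)⟩
      let lam : Multiplicative (ZMod (2 ^ (m + 2))) →* ℂ :=
        ⟨⟨fun j => EE (i * j.toAdd), by simp [EE_zero]⟩, fun j l => by simp [mul_add, EE_add]⟩
      obtain ⟨n, hn⟩ := Char.inner_gen_eq_int (Char.gen_comp h2 φ)
        (Char.gen_of_irr (Char.irr_linear lam.toHomUnits))
      refine ⟨n, hn ▸ ?_⟩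
      rw [Char.inner_def, fc, Nat.card_congr Multiplicative.toAdd, Nat.card_zmod, Nat.cast_pow]
      refine congrArg _ (Fintype.sum_equiv Multiplicative.ofAdd _ _ fun j => ?_)
      rw [← conj_EE]; rfl
    choose n hn using h4
    refine ⟨n, fun j hj => (h3 ⟨_, aP j⟩ (aq j hj)).trans (by simp only [fo, ← hn, sum_fc_mul]),
      fun i => Int.cast_injective (α := ℂ) ?_⟩
    rw [← hn, ← hn, fc_k (by ring) fun j => ?_]
    exact (congrArg δ (Subtype.ext (at' j).symm)).trans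
      (Char.gen_isClassFunction h2 ⟨_, aP j⟩ ⟨t, h.tP⟩)
  choose n hn1 hn2 using key
  have h2 : ∀ j, zh (m + 2) * j ≠ 0 → ((2 : ℕ) : ℂ) ^ blockDefect 2 (sbl 2 P e (a j)) =
      2 ^ (m + 3) := fun j hj => by
    have h2 := nil_defect hM he hqP hn hnil (aP j) (aq j hj)
    rw [h.inf_Cen (aA j) (a2 j hj), h.cardA] at h2
    exact_mod_cast h2
  have h3 : ∀ j, zh (m + 2) * j ≠ 0 → blockRank 2 (sbl 2 P e (a j)) = 1 := fun j hj =>
    nil_rank hM he hqP hn hnil (aP j) (aq j hj)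
  have hsp : ∀ j, zh (m + 2) * j ≠ 0 → InSpan B (τ (a j)) := fun j hj => hτ.span _ (aP j) (aq j hj)
  have h4 : ∀ j j', zh (m + 2) * j ≠ 0 → zh (m + 2) * j' ≠ 0 → classInner (τ (a j)) (τ (a j')) =
      if j = j' ∨ j = -1 * j' then 2 ^ (m + 3) else 0 := fun j j' hj hj' => by
    split_ifs with hjj
    · have h4 : τ (a j) = τ (a j') := by
        rcases hjj with rfl | rfl
        · rfl
        refine Char.classFun_ext (hsp _ hj).classFun (hsp _ hj').classFun fun χ hχ => ?_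
        rw [← Char.inner_conj_symm, ← Char.inner_conj_symm χ, hn1 ⟨χ, hχ⟩ _ hj, hn1 ⟨χ, hχ⟩ _ hj',
          fo, fo, ← Equiv.sum_comp (Equiv.neg _)]
        refine congrArg _ (Finset.sum_congr rfl fun i _ => ?_)
        rw [Equiv.neg_apply, ← neg_one_mul, hn2]
        congr 2; ring
      rw [h4, hτ.norm hM hB he.bpair (aP _) (aq _ hj') (h3 _ hj'), h2 _ hj']
    · refine hτ.orth hM hB he.bpair (aP _) (aq _ hj) (h3 _ hj) (aP _) (aq _ hj') (h3 _ hj')
        fun h4 => hjj ?_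
      rcases h.fConj_A hM he (aA _) (aA _) h4.symm with h5 | h5
      exacts [Or.inl (ainj h5), Or.inr (ainj (h5.trans (at' _)))]
  have hc : Cp (zh (m + 2)) 0 (zh (m + 2)) := fun j hj => by rw [zero_mul, hj]
  have h5 : ∀ χ : IrrCharacter G, classInner (χ : G → ℂ) (UU (fun j => τ (a j)) 0 (zh (m + 2))) =
      (n χ 0 - n χ (zh (m + 2)) : ℤ) := fun χ => by
    rw [inner_UU hc (hn1 χ), fc_fo, fc_fo, Int.cast_sub]
  have h6 : InSpan B (UU (fun j => τ (a j)) 0 (zh (m + 2))) := inSpan_sum _ fun j _ => by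
    by_cases hj : zh (m + 2) * j = 0
    · rw [hc j hj, sub_self, mul_zero, zero_smul]; exact inSpan_zero B
    · exact (hsp j hj).smul _
  have h7 : ∀ j, zh (m + 2) * j ≠ 0 →
      classInner (UU (fun j => τ (a j)) 0 (zh (m + 2))) (τ (a j)) = (fun _ => 8) j := fun j hj => by
    have h7 : -1 * j ≠ j := fun h7 => odd_two_mul_ne (by omega) hj (by linear_combination -h7)
    rw [UU, Char.inner_sum_left, Finset.sum_congr rfl (g := fun j' =>
      if j' ∈ ({j, -1 * j} : Finset _) then 4 else 0) fun j' _ => ?_, Finset.sum_ite_mem,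
      Finset.univ_inter, Finset.sum_pair h7.symm]
    · norm_num
    rw [Char.inner_smul_left]
    by_cases hj' : zh (m + 2) * j' = 0
    · rw [hc j' hj', if_neg]
      · simp
      simp only [Finset.mem_insert, Finset.mem_singleton]
      rintro (rfl | rfl)
      exacts [hj hj', hj (by linear_combination -hj')]
    · rw [h4 j' j hj' hj, zh_mul_of_odd hm hj', zero_mul, EE_zero, EE_zh hm]
      simp only [Finset.mem_insert, Finset.mem_singleton]
      split_ifs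
      · field_simp; ring
      · simp
  have h8 : ∑ χ ∈ Finset.univ.filter (· ∈ B), (n χ 0 - n χ (zh (m + 2))) ^ 2 = 8 := by
    refine Int.cast_injective (α := ℂ) ?_
    have h8 := inner_UU hc h7
    rw [h6.inner_eq_sum] at h8
    simp only [fc, ← Finset.mul_sum, ← neg_mul, sum_EE, neg_eq_zero, zh_ne_zero hm, if_true,
      if_false] at h8
    rw [Int.cast_sum, Finset.sum_congr rfl fun χ _ => ?_, h8]
    · field_simp; ring
    · rw [← Char.inner_conj_symm, h5, map_intCast, pow_two, Int.cast_mul]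
  rw [kz, Nat.card_eq_fintype_card, Fintype.card_subtype, ← Nat.cast_le (α := ℤ), Nat.cast_ofNat,
    ← h8, Finset.card_eq_sum_ones, Nat.cast_sum]
  refine (Finset.sum_le_sum fun χ hχ => ?_).trans (Finset.sum_le_sum_of_subset_of_nonneg
    (Finset.monotone_filter_right _ fun _ _ h => h.1) fun _ _ _ => sq_nonneg _)
  obtain ⟨hχ, h0⟩ := (Finset.mem_filter.1 hχ).2
  have hj : zh (m + 2) * 1 ≠ 0 := by simpa using zh_ne_zero hm
  have h9 := (v_cm_eq_one_iff hM (exists_orderOf_of_mem hM.1 hp.isP (aP 1)) le_rfl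
    (isInducedBlock_sbl hM hB he.bpair (aP 1)) hχ hχ).2 ⟨h0, h0⟩
  rw [hτ.cm _ (aP 1) (aq 1 hj) _ _ (Char.irr_isClassFunction χ.2) (Char.irr_isClassFunction χ.2),
    ← Char.inner_conj_symm χ (τ _), hn1 χ 1 hj, map_mul, conj_fo, fo] at h9
  have h10 := (odd_sum_iff hm (by ring) (fun i => ⟨fun h => by linear_combination -h,
    fun h => by linear_combination -h⟩) (hn2 χ)).1 ((v_fo_eq_one_iff hM _ (· * 1)).1 (le_antisymm
      (v_fo_le_one hM _ _) (h9.ge.trans (mul_le_of_le_one_right' (v_fo_le_one hM _ _)))))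
  exact_mod_cast (one_le_sq_iff_one_le_abs _).2 (Int.one_le_abs fun h => by simp [h] at h10)

theorem nil_of_rank_one (h1 : t * x * t⁻¹ * x = 1) (hw : w ∈ A) (h2 : w * w = 1)
    (hwx : w ∉ zpowers x) (hr : blockRank 2 (sbl 2 P e w) = 1) :
    IsNilBlk 2 (Cen w) (ebs M _ (sbl 2 P e w)) := by
  have hwP := h.A_le hw
  obtain ⟨K, _, _, ρ, b, h4, h5, h6, h7, h8⟩ := exists_quot hM he.bpair.pair hwP
    (isDefGrp_sbl_of_le hM he hwP (h.le_Cen hw h2))
  have h9 := card_range_mul hwP h7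
  rw [orderOf_eq_prime (x := w) (p := 2) (by rwa [pow_two]) fun h3 => hwx (h3 ▸ one_mem _), h.cardP,
    pow_succ _ (m + 3), mul_left_inj' two_ne_zero] at h9
  have h10 := exists_mc (S := ρ.range) (x := ρ ⟨x, h.xP⟩) (y := ρ ⟨t, h.tP⟩) (n := m + 2)
    ⟨_, rfl⟩ ⟨_, rfl⟩ h9 (h.ox ▸ orderOf_eq_orderOf_iff.2 fun n => by
      rw [← map_pow, h7]
      exact ⟨fun h3 => (eq_or_of_mul_self h2 h3).resolve_right fun h4 =>
        hwx (h4 ▸ npow_mem_zpowers x n), fun h3 => by simp [h3]⟩) (κ := -1) (γ := 0)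
    (by
      rw [zpow_neg_one, ← map_inv, ← map_inv, ← map_mul, ← map_mul]
      exact congrArg ρ (Subtype.ext (eq_inv_of_mul_eq_one_left h1)))
    (by rw [zpow_zero, ← map_mul, ← ρ.map_one]; exact congrArg ρ (Subtype.ext h.tt))
    (by
      rintro ⟨i, hi⟩
      simp only at hi
      rw [← map_zpow, ← inv_mul_eq_one, ← map_inv, ← map_mul, h7] at hi
      exact h.tA ((mul_mem_cancel_left (inv_mem (zpow_mem xA i))).1 (zpowers_le_of_mem hw hi)))
  rw [Int.cast_neg, Int.cast_one, Int.cast_zero] at h10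
  exact h8 (nil_of_dihedral hM h4 h5 ⟨h10, by omega, 1, 1, by ring, by ring⟩ (by omega)
    (h6.trans hr))

theorem two_le_rank (h1 : t * x * t⁻¹ * x = 1) (ha : a ∈ A) (hc : FConj 2 P e a t) :
    3 ≤ blockRank 2 (sbl 2 P e s) + blockRank 2 (sbl 2 P e (q₀ * s)) := by
  have := charP_k hM
  have hp := he.bpair.pair
  have hr : ∀ u ∈ P, 0 < blockRank 2 (sbl 2 P e u) := fun u hu =>
    blockRank_pos hM.1 (block_nonempty hM (sbl_spec hM hp hu).1)
  by_contra h2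
  have h3 := hr s h.sP
  have h4 := hr _ (h.A_le (mul_mem (qA (m := m)) sA))
  obtain ⟨F, hF⟩ := hp.exists_isBFS
  obtain ⟨φ, h5, h6⟩ := exists_ext hM hF he hc.symm (h.fc_A hM he ha)
  have h7 : ∀ w ∈ A, w * w = 1 → w ∈ P ⊓ Cen t := fun w hw h7 =>
    ⟨h.A_le hw, mem_Cen.2 (h.central hw h7 h.tP).symm.eq⟩
  have key : ∀ w ∈ A, w * w = 1 → IsNilBlk 2 (Cen w) (ebs M _ (sbl 2 P e w)) → φ w ∉ A :=
    fun w hw h8 h9 h10 => by
      obtain ⟨u, hu, h11⟩ := agree_of_nil hM hF he (h.le_Cen hw h8) h8 h9 h5 (h7 w hw h8)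
        (h.fConj_Z hM he hw h8 h10 (fConj_of_mor hM hF he h5 (h7 w hw h8)))
      rw [h11 t ⟨h.tP, self_mem_Cen t⟩] at h6
      exact h.tA ((mem_normalizer_iff.1 (h.le_norm hu) t).2 (h6 ▸ ha))
  obtain ⟨q, hq, hy⟩ := h.exists_q
  obtain rfl : q = q₀ := hq.resolve_right fun h2 => h.sx (h2.2 ▸ h1 ▸ one_mem _)
  refine key _ (mul_mem qA sA) h.qs_sq (h.nil_of_rank_one hM hB he h1 (mul_mem qA sA) h.qs_sq
    h.qs_notMem (by omega)) ?_
  rw [h5.mul (h7 _ qA h.q_sq) (h7 _ sA h.ss)]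
  exact h.out_mul (h5.maps (h7 _ qA h.q_sq)) (key _ qA h.q_sq (h.nil_q hM he (Or.inl rfl) hy))
    (h5.maps (h7 _ sA h.ss)) (key _ sA h.ss (h.nil_of_rank_one hM hB he h1 sA h.ss h.sx (by omega)))

omit he in
theorem rank_le_four (hD : IsDefectGroup 2 M B P) : blockRank 2 B ≤ 4 := by
  classical
  have := Fintype.ofFinite P
  obtain ⟨e, he⟩ := exists_maxPair_of_defect hM hB hD
  have hp := he.bpair.pair
  have hr : ∀ u ∈ A, 0 < blockRank 2 (sbl 2 P e u) := fun u hu =>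
    blockRank_pos hM.1 (block_nonempty hM (sbl_spec hM hp (h.A_le hu)).1)
  have r1 := hr _ (qA (m := m))
  have r2 := hr s sA
  have r3 := hr _ (mul_mem (qA (m := m)) sA)
  have h1 := h.count hM hB he
  have h2 : 4 * Nat.card B ≤ 2 ^ (m + 4) + 3 * kz B := by
    obtain ⟨q, hq, hy⟩ := h.exists_q
    have h2 : q ∈ A ∧ q * q = 1 := by
      rcases hq with rfl | ⟨rfl, -⟩
      exacts [⟨qA, h.q_sq⟩, ⟨mul_mem qA sA, h.qs_sq⟩]
    have hqP := h.A_le h2.1
    rw [← h.cardP, card_defectGroup hM hB hD]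
    exact four_card_le_of_rank_one hM (exists_orderOf_of_mem hM.1 hp.isP hqP)
      (isInducedBlock_sbl hM hB he.bpair hqP) (blockDefect_sbl_of_le hM hB he hqP
      (h.le_Cen h2.1 h2.2)) (blockRank_eq_one_of_isNilpotentBlock hM ((isNilpotentBlock_iff_sub hM
      (sbl_spec hM hp hqP).1).2 (h.nil_q hM he (hq.imp_right And.left) hy)))
  have h3 : ∀ c : ℕ, kz B ≤ 8 → (c : ℝ) ≤ ∑ u ∈ Finset.univ.filter
      (fun u : P => ∀ a ∈ A, ¬ FConj 2 P e a u), (1 : ℝ) / fcard 2 P e u →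
      blockRank 2 B + blockRank 2 (sbl 2 P e q₀) + blockRank 2 (sbl 2 P e s) +
      blockRank 2 (sbl 2 P e (q₀ * s)) + c ≤ 8 := fun c h3 h4 => by
    have h5 : (4 * Nat.card B : ℝ) ≤ 2 ^ (m + 2) * 4 + 24 := by
      exact_mod_cast (by rw [pow_add _ (m + 2) 2] at h2; omega :
        4 * Nat.card B ≤ 2 ^ (m + 2) * 4 + 24)
    rw [← Nat.cast_le (α := ℝ)]
    push_cast
    linarith
  by_cases h4 : ∃ u ∈ P, ∀ a ∈ A, ¬ FConj 2 P e a u
  · obtain ⟨u, hu, h4⟩ := h4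
    have := h3 1 (h.kz_le_of_out hM hB he hu h4) (by
      rw [Nat.cast_one]
      refine (sum_inv_fcard hM hp hu).ge.trans
        (Finset.sum_le_sum_of_subset_of_nonneg (fun w hw => ?_) fun _ _ _ => by positivity)
      exact Finset.mem_filter.2 ⟨Finset.mem_univ _, fun a ha h5 =>
        h4 a ha (h5.trans hM hp (Finset.mem_filter.1 hw).2.symm)⟩)
    omega
  push Not at h4
  have h5 : t * x * t⁻¹ * x = 1 := h.tx.resolve_right fun h5 => by
    obtain ⟨a, ha, h6⟩ := h4 (t * x) (mul_mem h.tP h.xP)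
    have h7 := FConj.mul_self hM he h6
    rw [← mul_assoc, ← congrArg (t * x * · * x) h.t_inv, h5] at h7
    exact h.sx (h.fConj_Z hM he sA h.ss (mul_mem ha ha) h7.symm ▸ h.sq_mem ha)
  obtain ⟨a, ha, h6⟩ := h4 t h.tP
  have := h3 0 (h.kz_le_of_inv hM hB he h5) (by
    rw [Nat.cast_zero]; exact Finset.sum_nonneg fun _ _ => by positivity)
  have := h.two_le_rank hM hB he h5 ha h6
  omega

end DX

end CF.BlockB
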