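import Cfsg.Agent.BlockB.Ix4

/-!
# `2`-groups with a cyclic subgroup of index four
-/

namespace CF.BlockB

open Cfsg MonoidAlgebra Subgroup CF.Block CF.Invol

variable {G : Type*} [Group G] [Finite G] {D H K : Subgroup G} {x y z g : G} {n : ℕ}

theorem two_card_le (h : H ≤ K) (hg : g ∈ K) (hg' : g ∉ H) : 2 * Nat.card H ≤ Nat.card K := by
  obtain ⟨c, hc⟩ := card_dvd_of_le h
  have h1 : c ≠ 1 := fun h1 => hg' (eq_of_le_of_card_ge h (by rw [hc, h1, mul_one]) ▸ hg)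
  have h2 : c ≠ 0 := fun h2 => Nat.card_pos.ne' (hc.trans (by rw [h2, mul_zero]))
  rw [hc, mul_comm]
  exact Nat.mul_le_mul_left _ (by omega)

theorem exists_notMem (h : Nat.card H < Nat.card K) : ∃ g ∈ K, g ∉ H := by
  by_contra! h1
  exact (card_le_of_le h1).not_gt h

theorem idx_two (h : H ≤ K) (hc : Nat.card K = 2 * Nat.card H) : (H.subgroupOf K).index = 2 := by
  have h2 := (H.subgroupOf K).index_mul_card
  rw [Nat.card_congr (subgroupOfEquivOfLe h).toEquiv, hc] at h2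
  exact Nat.eq_of_mul_eq_mul_right Nat.card_pos h2

theorem mul_mem_two (h : H ≤ K) (hc : Nat.card K = 2 * Nat.card H) {a b : G} (ha : a ∈ K)
    (hb : b ∈ K) (ha' : a ∉ H) (hb' : b ∉ H) : a * b ∈ H :=
  (mul_mem_iff_of_index_two (idx_two h hc) (a := ⟨a, ha⟩) (b := ⟨b, hb⟩)).2 (iff_of_false ha' hb')

theorem conj_mem_two (h : H ≤ K) (hc : Nat.card K = 2 * Nat.card H) {a b : G} (ha : a ∈ K)
    (hb : b ∈ H) : a * b * a⁻¹ ∈ H :=
  (normal_of_index_eq_two (idx_two h hc)).conj_mem ⟨b, h hb⟩ hb ⟨a, ha⟩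

theorem exists_two (h : H ≤ K) (hc : Nat.card K ≤ 2 * Nat.card H) :
    ∃ y ∈ K, ∀ g ∈ K, g ∈ H ∨ g * y⁻¹ ∈ H := by
  by_cases h1 : K ≤ H
  · exact ⟨1, one_mem _, fun g hg => Or.inl (h1 hg)⟩
  obtain ⟨y, hy, hy'⟩ := SetLike.not_le_iff_exists.1 h1
  exact ⟨y, hy, fun g hg => or_iff_not_imp_left.2 fun hg' => mul_mem_two h
    (le_antisymm hc (two_card_le h hy hy')) hg (inv_mem hy) hg' (by rwa [inv_mem_iff])⟩

omit [Finite G] in
theorem mem_zpowers_odd (hx : orderOf x = 2 ^ n) {i : ℤ} (hi : ¬ 2 ∣ i) : x ∈ zpowers (x ^ i) := by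
  rw [mem_zpowers_zpow_iff, hx, ← Int.isCoprime_iff_gcd_eq_one]
  push_cast
  exact ((Int.prime_two.coprime_iff_not_dvd.2 hi).symm).pow_right

omit [Finite G] in
theorem commute_of_mem_zpowers (h : Commute g y) (hz : z ∈ zpowers y) : Commute g z := by
  obtain ⟨i, rfl⟩ := hz; exact h.zpow_right i

omit [Finite G] in
theorem mem_of_commute (hx : orderOf x = 2 ^ n) {j : ℕ} (hj : ∀ i < j, ¬ Commute g (x ^ 2 ^ i))
    (hy : y ∈ zpowers x) (h : Commute g y) : y ∈ zpowers (x ^ 2 ^ j) := by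
  obtain ⟨i, rfl⟩ := hy
  by_cases h0 : i = 0
  · simp [h0]
  obtain ⟨a, o, ho, rfl⟩ := WfDvdMonoid.max_power_factor h0 Int.prime_two.irreducible
  simp only [zpow_mul] at h ⊢
  norm_cast at h ⊢
  obtain ⟨k, -, hk⟩ := (Nat.dvd_prime_pow Nat.prime_two).1 (hx ▸ orderOf_pow_dvd (x := x) (2 ^ a))
  obtain ⟨c, rfl⟩ := Nat.exists_eq_add_of_le (not_lt.1 fun h1 => hj a h1
    (commute_of_mem_zpowers h (mem_zpowers_odd hk ho)))
  rw [pow_add, pow_mul]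
  exact zpow_mem (npow_mem_zpowers _ _) _

/-- There is a central element with quotient having a cyclic subgroup of index at most two. -/
def EZ (D : Subgroup G) : Prop :=
  ∃ z ∈ D, D ≤ Cen z ∧ ∃ a ∈ D, Nat.card D ≤ 2 * Nat.card (zpowers a ⊔ zpowers z : Subgroup G)

theorem ez_of (hD : Nat.card D = 4 * orderOf x) (hz : z ∈ D) (hc : D ≤ Cen z) {a : G} (ha : a ∈ D)
    (h1 : x ∈ zpowers a ⊔ zpowers z) (hg : g ∈ zpowers a ⊔ zpowers z) (hg' : g ∉ zpowers x) :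
    EZ D := by
  have := two_card_le (zpowers_le_of_mem h1) hg hg'
  rw [Nat.card_zpowers] at this
  exact ⟨z, hz, hc, a, ha, by omega⟩

theorem ez_of_commute (hP : IsPGroup 2 D) (hx : x ∈ D) (ho : orderOf x = 2 ^ n)
    (hD : Nat.card D = 4 * orderOf x) (hg : g ∈ D) (hg' : g ∉ zpowers x) (hc : Commute g x) :
    EZ D := by
  classical
  obtain ⟨y, hy, hyx, hxy, hyy⟩ : ∃ y ∈ D, y ∉ zpowers x ∧ Commute y x ∧ y * y ∈ zpowers x := by
    have h1 : ∃ j, g ^ 2 ^ j ∈ zpowers x :=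
      let ⟨j, hj⟩ := hP ⟨g, hg⟩; ⟨j, by rw [show g ^ 2 ^ j = 1 from congrArg Subtype.val hj]; simp⟩
    obtain ⟨j, hj⟩ : ∃ j, Nat.find h1 = j + 1 := Nat.exists_eq_succ_of_ne_zero fun h2 =>
      hg' (by simpa [h2] using Nat.find_spec h1)
    refine ⟨g ^ 2 ^ j, pow_mem hg _, Nat.find_min h1 (by omega), hc.pow_left _, ?_⟩
    rw [← pow_add, ← two_mul, ← pow_succ', ← hj]; exact Nat.find_spec h1
  have hn : y ∈ normalizer (zpowers x : Set G) :=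
    centralizer_le_normalizer _ (by rw [centralizer_zpowers']; exact mem_Cen.2 hxy.eq)
  have hA : zpowers x ⊔ zpowers y ≤ D := sup_le (zpowers_le_of_mem hx) (zpowers_le_of_mem hy)
  have h1 := card_sup_zpowers hn hyy hyx
  have h2 : Nat.card D = 2 * Nat.card (zpowers x ⊔ zpowers y : Subgroup G) := by
    rw [h1, Nat.card_zpowers, hD]; ring
  obtain ⟨t, ht, htA⟩ := exists_notMem (H := zpowers x ⊔ zpowers y) (K := D)
    (by have := Nat.card_pos (α := D); omega)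
  have xA : x ∈ zpowers x ⊔ zpowers y := mem_sup_left (mem_zpowers x)
  have yA : y ∈ zpowers x ⊔ zpowers y := mem_sup_right (mem_zpowers y)
  have h3 : ∀ a ∈ zpowers x ⊔ zpowers y, zpowers x ⊔ zpowers y ≤ Cen a := fun a ha => by
    have h3 : ∀ b, Commute x b → Commute y b → zpowers x ⊔ zpowers y ≤ Cen b := fun b h3 h4 =>
      sup_le (zpowers_le_of_mem (mem_Cen.2 h3.eq)) (zpowers_le_of_mem (mem_Cen.2 h4.eq))
    exact h3 a (mem_Cen.1 (h3 x (.refl x) hxy ha)).symm (mem_Cen.1 (h3 y hxy.symm (.refl y) ha)).symm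
  have h4 : ∀ a ∈ zpowers x ⊔ zpowers y, t * a * t⁻¹ = a → D ≤ Cen a := fun a ha h4 g hg => by
    by_cases hgA : g ∈ zpowers x ⊔ zpowers y
    · exact h3 a ha hgA
    · simpa using mul_mem (h3 a ha (mul_mem_two hA h2 hg (inv_mem ht) hgA (by rwa [inv_mem_iff])))
        (mem_Cen.2 (mul_inv_eq_iff_eq_mul.1 h4))
  have h5 := conj_mem_two hA h2 ht xA
  by_cases h6 : t * x * t⁻¹ ∈ zpowers x
  swap
  · refine ez_of hD (hA (mul_mem xA h5)) (h4 _ (mul_mem xA h5) ?_) hx (mem_sup_left (mem_zpowers x))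
      (mem_sup_right (mem_zpowers _)) (by rwa [mul_mem_cancel_left (mem_zpowers x)])
    have h7 := mem_Cen.1 (h3 x xA (mul_mem_two hA h2 ht ht htA htA))
    rw [mem_Cen.1 (h3 _ h5 xA), ← conj_mul, show t * (t * x * t⁻¹) * t⁻¹ = t * t * x * (t * t)⁻¹ by
      group, h7, mul_inv_cancel_right, mem_Cen.1 (h3 _ h5 xA)]
  by_cases h7 : t * x * t⁻¹ = x
  · exact ez_of hD hx (h4 x xA h7) hy (mem_sup_right (mem_zpowers x))
      (mem_sup_left (mem_zpowers y)) hyx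
  obtain ⟨r, hr⟩ := hyy
  simp only at hr
  by_cases h8 : 2 ∣ r
  swap
  · have h9 := mem_zpowers_odd ho h8
    exact ez_of hD (one_mem D) (fun g _ => mem_Cen.2 (by simp)) hy (mem_sup_left (zpowers_le_of_mem
      (hr ▸ mul_mem (mem_zpowers y) (mem_zpowers y)) h9)) (mem_sup_left (mem_zpowers y)) hyx
  obtain ⟨r, rfl⟩ := h8
  have h8 := conj_mem_two hA h2 ht yA
  have h9 : t * y * t⁻¹ * y⁻¹ ∈ zpowers x := mul_mem_two le_sup_left h1 h8 (inv_mem yA)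
    (fun h9 => hyx ((mem_normalizer_iff.1 (Transfer.mem_normalizer_of_cj_le (by
      rw [Transfer.cj_zpowers]; exact zpowers_le_of_mem h6)) y).2 h9)) (by rwa [inv_mem_iff])
  set c := t * x * t⁻¹ * x⁻¹ with hc'
  set d := t * y * t⁻¹ * y⁻¹ with hd
  have hcx : c ∈ zpowers x := mul_mem h6 (inv_mem (mem_zpowers x))
  have cm : ∀ a ∈ zpowers x, ∀ b ∈ zpowers x ⊔ zpowers y, Commute a b := fun a ha b hb =>
    mem_Cen.1 (h3 b hb (mem_sup_left ha))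
  have e1 : ∀ i : ℤ, t * x ^ i * t⁻¹ = c ^ i * x ^ i := fun i => by
    rw [← conj_zpow, ← (cm c hcx x xA).mul_zpow, hc', inv_mul_cancel_right]
  have e2 : t * y * t⁻¹ = d * y := by rw [hd, inv_mul_cancel_right]
  have e3 : c ^ r * c ^ r = d * d := by
    have := e1 (2 * r)
    rw [hr, ← conj_mul, e2, (cm d h9 y yA).symm.mul_mul_mul_comm, mul_left_inj, two_mul,
      zpow_add] at this
    exact this.symm
  obtain ⟨i, hi⟩ : d ∈ zpowers c := by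
    obtain _ | n := n
    · exact absurd (by rw [orderOf_eq_one_iff.1 ho]; simp) h7
    have h10 := half_mem_zpowers ho hcx fun h10 => h7 (mul_inv_eq_one.1 h10)
    have h11 := cm _ (zpow_mem hcx r) _ (mem_sup_left (inv_mem h9))
    rw [← inv_mem_iff, ← mul_mem_cancel_left (zpow_mem (mem_zpowers c) r)]
    rcases eq_half_of_mul_self ho (mul_mem (zpow_mem hcx r) (inv_mem h9)) (by
      rw [mul_assoc, ← mul_assoc d⁻¹, ← h11.eq, mul_assoc, ← mul_assoc, e3]; group) with h | h <;>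
      rw [h]
    exacts [one_mem _, h10]
  simp only at hi
  have h10 : y * x ^ (-i) ∈ zpowers x ⊔ zpowers y := mul_mem yA (zpow_mem xA _)
  refine ez_of hD (hA h10) (h4 _ h10 ?_) hx (mem_sup_left (mem_zpowers x))
    (mem_sup_right (mem_zpowers _)) (by rwa [mul_mem_cancel_right (zpow_mem (mem_zpowers x) _)])
  rw [← conj_mul, e1, e2, ← hi, (cm _ (zpow_mem hcx i) y yA).eq]
  group

/-- The groups `D × C₂` and `D ⋊ C₄` modulo a central cyclic subgroup. -/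
structure DY (D : Subgroup G) (m : ℕ) (x s t : G) : Prop where
  dvd : 2 ^ (m + 2) ∣ orderOf x
  cen : D ≤ Cen (x ^ 2 ^ (m + 2))
  ss : s * s ∈ zpowers (x ^ 2 ^ (m + 2))
  tt : t * t ∈ zpowers (x ^ 2 ^ (m + 2))
  xs : x * s * x⁻¹ * s⁻¹ ∈ zpowers (x ^ 2 ^ (m + 2))
  ts : t * s * t⁻¹ * s⁻¹ ∈ zpowers (x ^ 2 ^ (m + 2))
  tx : t * x * t⁻¹ * x ∈ zpowers (x ^ 2 ^ (m + 2)) ∨ t * x * t⁻¹ * x = s
  sx : s ∉ zpowers x
  tA : t ∉ zpowers x ⊔ zpowers s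
  xP : x ∈ D
  sP : s ∈ D
  tP : t ∈ D
  mem : ∀ g ∈ D, g ∈ zpowers x ⊔ zpowers s ∨ g * t ∈ zpowers x ⊔ zpowers s

omit [Finite G] in
theorem DY.dx {m : ℕ} {s t : G} (h : DY D m x s t) {K : Type*} [Group K] {ρ : D →* K}
    (hρ : ∀ g, ρ g = 1 ↔ (g : G) ∈ zpowers (x ^ 2 ^ (m + 2))) :
    DX ρ.range m (ρ ⟨x, h.xP⟩) (ρ ⟨s, h.sP⟩) (ρ ⟨t, h.tP⟩) := by
  have hU : zpowers (x ^ 2 ^ (m + 2)) ≤ zpowers x := zpowers_le_of_mem (npow_mem_zpowers x _)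
  have h1 : ∀ (T : Subgroup G) (g : D), x ∈ T → ρ g ∈ (T.subgroupOf D).map ρ → (g : G) ∈ T := by
    rintro T g hT ⟨g', h1, h2⟩
    rw [← inv_mul_eq_one, ← map_inv, ← map_mul, hρ] at h2
    exact (mul_mem_cancel_left (inv_mem h1)).1 (zpowers_le_of_mem hT (hU h2))
  have h2 : ∀ g : D, (g : G) ∈ zpowers x ⊔ zpowers s →
      ρ g ∈ zpowers (ρ ⟨x, h.xP⟩) ⊔ zpowers (ρ ⟨s, h.sP⟩) := fun g hg => by
    obtain ⟨g', h2, h3⟩ := (show zpowers x ⊔ zpowers s ≤ ((zpowers (ρ ⟨x, h.xP⟩) ⊔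
      zpowers (ρ ⟨s, h.sP⟩)).comap ρ).map D.subtype from sup_le
        (zpowers_le_of_mem ⟨⟨x, h.xP⟩, mem_sup_left (mem_zpowers _), rfl⟩)
        (zpowers_le_of_mem ⟨⟨s, h.sP⟩, mem_sup_right (mem_zpowers _), rfl⟩)) hg
    exact Subtype.ext h3 ▸ h2
  have h3 : ∀ (T : Subgroup G) (g : D), (g : G) ∈ T → zpowers (ρ g) ≤ (T.subgroupOf D).map ρ :=
    fun T g hg => zpowers_le_of_mem (mem_map_of_mem ρ hg)
  refine ⟨?_, ?_, ?_, ?_, ?_, ?_, fun h4 => h.sx (h1 _ ⟨s, h.sP⟩ (mem_zpowers x)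
    (h3 _ ⟨x, h.xP⟩ (mem_zpowers x) h4)), fun h4 => h.tA (h1 _ ⟨t, h.tP⟩ DX.xA
    (sup_le (h3 _ ⟨x, h.xP⟩ DX.xA) (h3 _ ⟨s, h.sP⟩ DX.sA) h4)), ⟨⟨x, h.xP⟩, rfl⟩,
    ⟨⟨s, h.sP⟩, rfl⟩, ⟨⟨t, h.tP⟩, rfl⟩, ?_⟩
  · refine orderOf_eq_prime_pow (fun h3 => ?_) (by rw [← map_pow, hρ]; exact mem_zpowers _)
    rw [← map_pow, hρ] at h3
    obtain ⟨i, hi⟩ := h3
    simp only [coe_pow] at hi
    rw [← zpow_natCast, ← zpow_mul, ← zpow_natCast, ← mul_inv_eq_one, ← zpow_sub,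
      ← orderOf_dvd_iff_zpow_eq_one] at hi
    have h4 := (dvd_sub_right (Dvd.intro i rfl)).1 ((Int.natCast_dvd_natCast.2 h.dvd).trans hi)
    exact (Nat.le_of_dvd (by positivity) (Int.natCast_dvd_natCast.1 h4)).not_gt
      (Nat.pow_lt_pow_right one_lt_two (by omega))
  · rw [← map_mul, hρ]; exact h.ss
  · rw [← map_mul, hρ]; exact h.tt
  · rw [← commutatorElement_eq_one_iff_commute, ← map_commutatorElement, hρ]; exact h.xs
  · rw [← commutatorElement_eq_one_iff_commute, ← map_commutatorElement, hρ]; exact h.ts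
  · rw [← map_inv, ← map_mul, ← map_mul, ← map_mul, hρ]
    exact h.tx.imp_right fun h3 => congrArg ρ (Subtype.ext h3)
  · rintro _ ⟨g, rfl⟩
    rw [← map_mul]
    exact (h.mem g g.2).imp (h2 _) (h2 _)

omit [Finite G] in
theorem kappa (ho : orderOf x = 2 ^ (n + 1)) {d : G} (hd : d * x * d⁻¹ ∈ zpowers x)
    (h2 : Commute (d * d) x) : d * x * d⁻¹ * x⁻¹ ∈ zpowers (x ^ 2 ^ n) ∨
      d * x * d⁻¹ * x ∈ zpowers (x ^ 2 ^ n) := by
  obtain ⟨k, hk⟩ := hd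
  simp only at hk
  have h1 : x ^ (k * k - 1) = 1 := by
    rw [zpow_sub_one, zpow_mul, hk, conj_zpow, hk, mul_inv_eq_one,
      show d * (d * x * d⁻¹) * d⁻¹ = d * d * x * (d * d)⁻¹ by group, h2.eq, mul_inv_cancel_right]
  rw [← orderOf_dvd_iff_zpow_eq_one, ho] at h1
  push_cast at h1
  have h3 : ∀ i : ℤ, 2 ^ n ∣ i → x ^ i ∈ zpowers (x ^ 2 ^ n) := by
    rintro _ ⟨j, rfl⟩; exact ⟨j, by simp only [zpow_mul]; norm_cast⟩
  rw [← hk, ← zpow_sub_one, ← zpow_add_one]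
  have h4 : ∀ a b : ℤ, ¬ 2 ∣ b → 2 ^ (n + 1) ∣ 2 * a * b → 2 ^ n ∣ a := fun a b hb h4 => by
    have := ((Int.prime_two.coprime_iff_not_dvd.2 hb).pow_left).dvd_of_dvd_mul_right h4
    rwa [pow_succ', mul_dvd_mul_iff_left two_ne_zero] at this
  obtain ⟨c, rfl | rfl⟩ := Int.even_or_odd' k
  · have := (dvd_pow_self 2 n.succ_ne_zero).trans h1
    rw [show 2 * c * (2 * c) - 1 = 2 * (2 * c * c) - 1 by ring] at this
    omega
  by_cases hc : 2 ∣ c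
  · exact Or.inl (h3 _ (h4 _ (c + 1) (by omega) (by convert h1 using 1; ring)))
  · exact Or.inr (h3 _ (h4 _ c hc (by convert h1 using 1; ring)))

end CF.BlockB
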