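import Cfsg.Agent.BlockB.Ix5

/-!
# `2`-groups with a self-centralizing cyclic subgroup of index four
-/

namespace CF.BlockB

open Cfsg MonoidAlgebra Subgroup CF.Block CF.Invol

variable {G : Type*} [Group G] [Finite G] {D H K : Subgroup G} {x y z g : G} {n : ℕ}

theorem mem_norm (h : g * x * g⁻¹ ∈ zpowers x) : g ∈ normalizer (zpowers x : Set G) :=
  Transfer.mem_normalizer_of_cj_le (by rw [Transfer.cj_zpowers]; exact zpowers_le_of_mem h)

theorem mem_four (hx : x ∈ D) (hD : Nat.card D = 4 * orderOf x) {s t : G} (hs : s ∈ D)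
    (h1 : s * x * s⁻¹ ∈ zpowers x) (h2 : s * s ∈ zpowers x) (h3 : s ∉ zpowers x) (ht : t ∈ D)
    (h4 : t ∉ zpowers x ⊔ zpowers s) (g : G) (hg : g ∈ D) :
    g ∈ zpowers x ⊔ zpowers s ∨ g * t ∈ zpowers x ⊔ zpowers s :=
  or_iff_not_imp_left.2 fun h5 => mul_mem_two (sup_le (zpowers_le_of_mem hx) (zpowers_le_of_mem hs))
    (by rw [card_sup_zpowers (mem_norm h1) h2 h3, Nat.card_zpowers, hD]; ring) hg ht h5 h4

omit [Finite G] in
theorem comm_zpowers (hy : y ∈ zpowers x) (hz : z ∈ zpowers x) : Commute y z :=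
  commute_of_mem_zpowers (commute_of_mem_zpowers (.refl x) hy).symm hz

omit [Finite G] in
theorem commute_half (ho : orderOf x = 2 ^ (n + 1)) (h : g * x ^ 2 ^ n * g⁻¹ ∈ zpowers x) :
    Commute g (x ^ 2 ^ n) :=
  mul_inv_eq_iff_eq_mul.1 ((eq_half_of_mul_self ho h (by
    rw [conj_mul, pow_half_mul_self ho, mul_one, mul_inv_cancel])).resolve_left fun h1 =>
      pow_half_ne_one ho (conj_eq_one_iff.1 h1))

theorem dy_of_normal (hx : x ∈ D) (ho : orderOf x = 2 ^ (n + 1)) (hD : Nat.card D = 4 * orderOf x)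
    (hC : ∀ g ∈ D, Commute g x → g ∈ zpowers x) (hn : ∀ d ∈ D, d * x * d⁻¹ ∈ zpowers x)
    (h2 : ∀ d ∈ D, d * d ∈ zpowers x) : ∃ m s t, DY D m x s t := by
  set z := x ^ 2 ^ n with hz
  have hzx : z ∈ zpowers x := npow_mem_zpowers x _
  have hzz : z * z = 1 := pow_half_mul_self ho
  have hc : ∀ d ∈ D, ∀ u ∈ zpowers z, Commute d u := fun d hd u =>
    commute_of_mem_zpowers (commute_half ho (by rw [← conj_pow]; exact pow_mem (hn d hd) _))
  have hk := fun d hd => kappa ho (hn d hd) (comm_zpowers (h2 d hd) (mem_zpowers x))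
  have hp : ∀ d ∈ D, d ∉ zpowers x → d * x * d⁻¹ * x⁻¹ ∈ zpowers z → d * x * d⁻¹ = z * x :=
    fun d hd h3 h4 => mul_inv_eq_iff_eq_mul.1 ((eq_or_of_mul_self hzz h4).resolve_left fun h5 =>
      h3 (hC d hd (mul_inv_eq_iff_eq_mul.1 (mul_inv_eq_one.1 h5))))
  have hX : Nat.card (zpowers x) = orderOf x := Nat.card_zpowers x
  have h0 := orderOf_pos x
  obtain ⟨a, ha, hax⟩ := exists_notMem (H := zpowers x) (K := D) (by omega)
  have h3 := card_sup_zpowers (mem_norm (hn a ha)) (h2 a ha) hax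
  obtain ⟨b, hb, hbA⟩ := exists_notMem (H := zpowers x ⊔ zpowers a) (K := D) (by omega)
  have hbx : b ∉ zpowers x := fun h => hbA (mem_sup_left h)
  obtain ⟨t, ht, h4⟩ : ∃ t ∈ D, t * x * t⁻¹ * x⁻¹ ∉ zpowers z := by
    by_contra! h4
    have h5 := (hp a ha hax (h4 a ha)).trans (hp b hb hbx (h4 b hb)).symm
    refine hbA ((mul_mem_cancel_left (inv_mem (mem_sup_right (mem_zpowers a)))).1
      (mem_sup_left (hC _ (mul_mem (inv_mem ha) hb) ?_)))
    rw [Commute, SemiconjBy, ← mul_inv_eq_iff_eq_mul,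
      show a⁻¹ * b * x * (a⁻¹ * b)⁻¹ = a⁻¹ * (b * x * b⁻¹) * a by group, ← h5]
    group
  have h5 := (hk t ht).resolve_left h4
  have h6 : x * x ∉ zpowers z := fun h => h4 (by simpa [mul_assoc] using mul_mem h5 (inv_mem h))
  obtain ⟨s, hs, hsx, h7⟩ : ∃ s ∈ D, s ∉ zpowers x ∧ s * x * s⁻¹ * x⁻¹ ∈ zpowers z := by
    rcases hk a ha with h7 | h7
    · exact ⟨a, ha, hax, h7⟩
    rcases hk b hb with h8 | h8
    · exact ⟨b, hb, hbx, h8⟩
    refine ⟨a * b, mul_mem ha hb, fun h => hbA ((mul_mem_cancel_left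
      (mem_sup_right (mem_zpowers a))).1 (mem_sup_left h)), ?_⟩
    have h9 := (hc a ha _ h8).eq
    have h10 := (hc x hx _ h7).eq
    rw [show a * b * x * (a * b)⁻¹ * x⁻¹ = a * (b * x * b⁻¹ * x) * a⁻¹ *
      (x * (a * x * a⁻¹ * x) * x⁻¹)⁻¹ by group, h9, h10, mul_inv_cancel_right, mul_inv_cancel_right]
    exact mul_mem h8 (inv_mem h7)
  replace h7 := hp s hs hsx h7
  have hzc : Commute z x := comm_zpowers hzx (mem_zpowers x)
  obtain ⟨s, hs, hsx, h7, h8⟩ : ∃ s ∈ D, s ∉ zpowers x ∧ s * x * s⁻¹ = z * x ∧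
      s * s ∈ zpowers z := by
    obtain ⟨r, hr⟩ := mem_of_commute (g := s) (j := 1) ho (fun i hi h => hsx (hC s hs (by
      obtain rfl : i = 0 := by omega
      simpa using h))) (h2 s hs) ((Commute.refl s).mul_right (.refl s))
    simp only [pow_one, pow_two] at hr
    rw [(Commute.refl x).mul_zpow] at hr
    refine ⟨s * (x ^ r)⁻¹, mul_mem hs (inv_mem (zpow_mem hx r)), by
      rwa [mul_mem_cancel_right (inv_mem (zpow_mem (mem_zpowers x) r))], by rw [← h7]; group, ?_⟩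
    rw [show s * (x ^ r)⁻¹ * (s * (x ^ r)⁻¹) = (s * x ^ r * s⁻¹)⁻¹ * (s * s) * (x ^ r)⁻¹ by group,
      ← hr, ← conj_zpow, h7, hzc.mul_zpow, (hzc.zpow_zpow r r).eq, mul_inv_rev, ← mul_assoc,
      mul_inv_cancel_right, inv_mul_cancel_right]
    exact inv_mem (zpow_mem (mem_zpowers z) r)
  have h9 : ∀ d ∈ D, d * x * d⁻¹ * x ∈ zpowers z → ∀ y ∈ zpowers x, Commute d y →
      y ∈ zpowers z := fun d hd h9 y hy h10 => by
    obtain ⟨r, rfl⟩ := mem_of_commute (g := d) (j := 1) ho (fun i hi h => h6 (by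
      obtain rfl : i = 0 := by omega
      rwa [show d * x = x * d by simpa using h.eq, mul_inv_cancel_right] at h9)) hy h10
    have h11 : d * x ^ 2 ^ 1 * d⁻¹ = (x ^ 2 ^ 1)⁻¹ := by
      rw [← conj_pow, pow_one, eq_inv_iff_mul_eq_one, ← (comm_zpowers (hn d hd)
        (mem_zpowers x)).mul_pow, pow_two]
      rcases eq_or_of_mul_self hzz h9 with h | h <;> rw [h]
      exacts [one_mul 1, hzz]
    have h12 := conj_zpow (a := d) (b := x ^ 2 ^ 1) (i := r)
    rw [h11, h10.eq, mul_inv_cancel_right, inv_zpow, inv_eq_iff_mul_eq_one] at h12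
    rcases eq_half_of_mul_self ho hy h12 with h | h <;> rw [h]
    exacts [one_mem _, mem_zpowers _]
  have h10 := h9 t ht h5 _ (h2 t ht) ((Commute.refl t).mul_right (.refl t))
  obtain ⟨m, rfl⟩ : ∃ m, n = m + 2 := Nat.exists_eq_add_of_le' (by
    by_contra! h
    interval_cases n
    · exact h6 (by rw [hz, pow_zero, pow_one]; exact mul_mem (mem_zpowers x) (mem_zpowers x))
    · exact h6 (by rw [hz, pow_one, pow_two]; exact mem_zpowers _))
  have h11 : t ∉ zpowers x ⊔ zpowers s := fun h => by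
    have hxx : x * x ∈ zpowers x := mul_mem (mem_zpowers x) (mem_zpowers x)
    refine h6 (h9 t ht h5 _ hxx (mem_Cen.1 (sup_le (zpowers_le_of_mem (mem_Cen.2 (mul_assoc ..).symm))
      (zpowers_le_of_mem (mem_Cen.2 ?_)) h)))
    rw [← mul_inv_eq_iff_eq_mul, ← conj_mul, h7, hzc.symm.mul_mul_mul_comm, hzz, one_mul]
  refine ⟨m, s, t, ho ▸ pow_dvd_pow 2 (by omega), fun g hg => mem_Cen.2 (hc g hg z (mem_zpowers z)),
    h8, h10, ?_, ?_, Or.inl h5, hsx, h11, hx, hs, ht,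
    mem_four hx hD hs (hn s hs) (h2 s hs) hsx ht h11⟩
  · rw [show x * s * x⁻¹ * s⁻¹ = x * (s * x * s⁻¹)⁻¹ by group, h7, mul_inv_rev, mul_inv_cancel_left]
    exact inv_mem (mem_zpowers z)
  have h12 := h9 (t * s) (mul_mem ht hs) (by
    rw [show t * s * x * (t * s)⁻¹ * x = t * (s * x * s⁻¹) * t⁻¹ * x by group, h7, ← mul_assoc t,
      (hc t ht z (mem_zpowers z)).eq, mul_assoc, mul_assoc, mul_assoc, ← mul_assoc x, ← mul_assoc t,
      ← mul_assoc t]
    exact mul_mem (mem_zpowers z) h5) _ (h2 _ (mul_mem ht hs))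
      ((Commute.refl _).mul_right (.refl _))
  rw [show t * s * t⁻¹ * s⁻¹ = t * s * (t * s) * (s * (t * t) * s)⁻¹ by group, (hc s hs _ h10).eq,
    mul_assoc (t * t)]
  exact mul_mem h12 (inv_mem (mul_mem h10 h8))

theorem dy_of_not_normal (hP : IsPGroup 2 D) (hx : x ∈ D) (ho : orderOf x = 2 ^ (n + 1))
    (hD : Nat.card D = 4 * orderOf x) (hC : ∀ g ∈ D, Commute g x → g ∈ zpowers x)
    (hn : ¬ D ≤ normalizer (zpowers x : Set G)) : EZ D ∨ ∃ m s t, DY D m x s t := by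
  classical
  set N := D ⊓ normalizer (zpowers x : Set G) with hN
  have hX : Nat.card (zpowers x) = orderOf x := Nat.card_zpowers x
  have h0 := orderOf_pos x
  have hXN : zpowers x ≤ N := le_inf (zpowers_le_of_mem hx) le_normalizer
  have hxx : x * x ∈ zpowers x := mul_mem (mem_zpowers x) (mem_zpowers x)
  obtain ⟨t, ht, htN⟩ : ∃ t ∈ D, t ∉ N :=
    let ⟨t, h1, h2⟩ := SetLike.not_le_iff_exists.1 hn; ⟨t, h1, fun h => h2 h.2⟩
  have h1 : 2 * Nat.card N ≤ Nat.card D := two_card_le inf_le_left ht htN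
  have h2 : 2 * Nat.card (zpowers x) ≤ Nat.card N := by
    obtain ⟨a, ha, ha'⟩ := SetLike.exists_of_lt (lt_inf_normalizer hP (lt_of_le_of_ne
      (zpowers_le_of_mem hx) fun h => hn (h ▸ le_normalizer)))
    exact two_card_le hXN ha ha'
  have c1 : Nat.card N = 2 * Nat.card (zpowers x) := by omega
  have c2 : Nat.card D = 2 * Nat.card N := by omega
  have h3 : ∀ t ∈ D, t ∉ N → t * x * t⁻¹ ∈ N ∧ t * x * t⁻¹ ∉ zpowers x := fun t ht htN =>
    ⟨conj_mem_two inf_le_left c2 ht (hXN (mem_zpowers x)), fun h => htN ⟨ht, mem_norm h⟩⟩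
  have h4 : ∀ d ∈ D, d * (x * x) * d⁻¹ ∈ zpowers x := fun d hd => by
    by_cases h : d ∈ N
    · exact (mem_normalizer_iff.1 h.2 _).1 hxx
    · rw [← conj_mul]
      exact mul_mem_two hXN c1 (h3 d hd h).1 (h3 d hd h).1 (h3 d hd h).2 (h3 d hd h).2
  have h5 : N ≤ Cen (x * x) := fun d hd => by
    have h5 : zpowers x ≤ Cen (x * x) := fun a ha => mem_Cen.2 (comm_zpowers ha hxx)
    have h6 : t * x * t⁻¹ ∈ Cen (x * x) := mem_Cen.2 (by
      have := (comm_zpowers (mem_zpowers x) (h4 _ (inv_mem ht))).eq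
      calc t * x * t⁻¹ * (x * x) = t * (x * (t⁻¹ * (x * x) * t⁻¹⁻¹)) * t⁻¹ := by group
        _ = _ := by rw [this]; group)
    by_cases h : d ∈ zpowers x
    · exact h5 h
    · exact (mul_mem_cancel_right h6).1 (h5 (mul_mem_two hXN c1 hd (h3 t ht htN).1 h (h3 t ht htN).2))
  have h6 : ∀ d ∈ N, d ∉ zpowers x → d * x * d⁻¹ * x⁻¹ = x ^ 2 ^ n := fun d hd h => by
    have h6 := (mem_normalizer_iff.1 hd.2 x).1 (mem_zpowers x)
    refine (eq_half_of_mul_self ho (mul_mem h6 (inv_mem (mem_zpowers x))) ?_).resolve_left fun h7 =>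
      h (hC d hd.1 (mul_inv_eq_iff_eq_mul.1 (mul_inv_eq_one.1 h7)))
    rw [(comm_zpowers (inv_mem (mem_zpowers x)) h6).mul_mul_mul_comm, conj_mul, mem_Cen.1 (h5 hd)]
    group
  obtain ⟨t, ht, htN, htt⟩ : ∃ t ∈ D, t ∉ N ∧ t * t ∈ zpowers x := by
    by_cases h : t * t ∈ zpowers x
    · exact ⟨t, ht, htN, h⟩
    refine ⟨t * x, mul_mem ht hx, by rwa [mul_mem_cancel_right (hXN (mem_zpowers x))], ?_⟩
    rw [show t * x * (t * x) = t * x * t⁻¹ * (t * t) * x by group]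
    exact mul_mem (mul_mem_two hXN c1 (h3 t ht htN).1 (mul_mem_two inf_le_left c2 ht ht htN htN)
      (h3 t ht htN).2 h) (mem_zpowers x)
  obtain ⟨h7, h8⟩ := h3 t ht htN
  have h9 : ∀ y, N ≤ Cen y → Commute t y → D ≤ Cen y := fun y h9 h10 d hd => by
    by_cases h : d ∈ N
    · exact h9 h
    · exact (mul_mem_cancel_right (mem_Cen.2 h10)).1 (h9 (mul_mem_two inf_le_left c2 hd ht h htN))
  by_cases h10 : Commute t (x * x)
  · have h11 : t * x ∉ N := by rwa [mul_mem_cancel_right (hXN (mem_zpowers x))]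
    have h12 : t * x * (t * x) ∉ zpowers x := by
      rwa [show t * x * (t * x) = t * x * t⁻¹ * (t * t) * x by group,
        mul_mem_cancel_right (mem_zpowers x), mul_mem_cancel_right htt]
    have h13 := two_card_le (H := zpowers (x * x)) (K := zpowers (t * x * (t * x)) ⊔ zpowers (x * x))
      le_sup_right (mem_sup_left (mem_zpowers _)) fun h => h12 (zpowers_le_of_mem hxx h)
    have h14 := two_card_le (sup_le_sup_right (zpowers_le_of_mem (mul_mem (mem_zpowers (t * x))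
      (mem_zpowers (t * x)))) (zpowers (x * x))) (mem_sup_left (mem_zpowers _)) fun h => h11
        (sup_le (zpowers_le_of_mem (mul_mem_two inf_le_left c2 (mul_mem ht hx) (mul_mem ht hx) h11
          h11)) (zpowers_le_of_mem (hXN hxx)) h)
    have h15 : orderOf x ≤ 2 * orderOf (x * x) := orderOf_le_of_pow_eq_one
      (by have := orderOf_pos (x * x); omega) (by rw [pow_mul, pow_two, pow_orderOf_eq_one])
    rw [Nat.card_zpowers] at h13
    exact Or.inl ⟨x * x, mul_mem hx hx, h9 _ h5 h10, t * x, mul_mem ht hx, by omega⟩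
  have h11 : ∃ j, Commute t (x ^ 2 ^ j) := ⟨n + 1, by rw [← ho, pow_orderOf_eq_one]; simp⟩
  have h12 : ∀ i < 2, ¬ Commute t (x ^ 2 ^ i) := fun i hi h => h10 (by
    interval_cases i
    · exact (pow_one x ▸ h).mul_right (pow_one x ▸ h)
    · exact pow_two x ▸ h)
  obtain ⟨m, hm⟩ : ∃ m, Nat.find h11 = m + 2 :=
    Nat.exists_eq_add_of_le' ((Nat.le_find_iff h11 2).2 h12)
  have hU : ∀ y ∈ zpowers x, Commute t y → y ∈ zpowers (x ^ 2 ^ (m + 2)) := fun y =>
    mem_of_commute ho fun i hi => Nat.find_min h11 (hm ▸ hi)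
  have hpw : ∀ j, x ^ 2 ^ (j + 1) = (x * x) ^ 2 ^ j := fun j => by rw [pow_succ', pow_mul, pow_two]
  have hz : ∀ d ∈ D, Commute d (x ^ 2 ^ n) := fun d hd => commute_half ho (by
    obtain _ | n := n
    · exact absurd (by rw [← pow_two, show 2 = orderOf x from ho.symm, pow_orderOf_eq_one]; simp) h10
    · rw [hpw, ← conj_pow]; exact pow_mem (h4 d hd) _)
  have hzU := hU _ (npow_mem_zpowers x _) (hz t ht)
  have hsN : t * x * t⁻¹ * x ∈ N := mul_mem h7 (hXN (mem_zpowers x))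
  have hsx : t * x * t⁻¹ * x ∉ zpowers x := by rwa [mul_mem_cancel_right (mem_zpowers x)]
  set s := t * x * t⁻¹ * x with hs
  have hss := mul_mem_two hXN c1 hsN hsN hsx hsx
  have hts : t * s * t⁻¹ * s⁻¹ = (x ^ 2 ^ n)⁻¹ := by
    rw [← h6 _ h7 h8, hs, show t * (t * x * t⁻¹ * x) * t⁻¹ = t * t * x * (t * t)⁻¹ * (t * x * t⁻¹) by
      group, (comm_zpowers htt (mem_zpowers x)).eq]
    group
  have htA : t ∉ zpowers x ⊔ zpowers s := fun h => htN (sup_le hXN (zpowers_le_of_mem hsN) h)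
  refine Or.inr ⟨m, s, t, ho ▸ pow_dvd_pow 2 (hm ▸ Nat.find_min' h11 (by
      rw [← ho, pow_orderOf_eq_one]; simp)), h9 _ (fun d hd => mem_Cen.2 ?_) (hm ▸ Nat.find_spec h11),
    hU _ hss ?_, hU _ htt ((Commute.refl t).mul_right (.refl t)), ?_, hts ▸ inv_mem hzU, Or.inr rfl,
    hsx, htA, hx, hsN.1, ht, mem_four hx hD hsN.1 ((mem_normalizer_iff.1 hsN.2 x).1 (mem_zpowers x))
      hss hsx ht htA⟩
  · rw [hpw]; exact Commute.pow_right (mem_Cen.1 (h5 hd)) _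
  · rw [Commute, SemiconjBy, ← mul_inv_eq_iff_eq_mul, ← conj_mul, mul_inv_eq_iff_eq_mul.1 hts,
      (hz s hsN.1).inv_right.mul_mul_mul_comm, ← mul_inv_rev, pow_half_mul_self ho, inv_one, one_mul]
  · rw [show x * s * x⁻¹ * s⁻¹ = (s * x * s⁻¹ * x⁻¹)⁻¹ by group, h6 s hsN hsx]
    exact inv_mem hzU

theorem index_four (hP : IsPGroup 2 D) (hx : x ∈ D) (ho : orderOf x = 2 ^ n)
    (hD : Nat.card D = 4 * orderOf x) (hC : ∀ g ∈ D, Commute g x → g ∈ zpowers x) :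
    IsMetacyclic D ∨ EZ D ∨ ∃ m s t, DY D m x s t := by
  obtain _ | n := n
  · have h1 := card_le_of_le fun g hg => hC g hg (by rw [orderOf_eq_one_iff.1 ho]; simp)
    rw [Nat.card_zpowers] at h1
    omega
  by_cases hn : D ≤ normalizer (zpowers x : Set G)
  swap
  · exact Or.inr (dy_of_not_normal hP hx ho hD hC hn)
  by_cases h2 : ∀ d ∈ D, d * d ∈ zpowers x
  · exact Or.inr (Or.inr (dy_of_normal hx ho hD hC
      (fun d hd => (mem_normalizer_iff.1 (hn hd) x).1 (mem_zpowers x)) h2))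
  push Not at h2
  obtain ⟨d, hd, h2⟩ := h2
  have h1 := (normal_subgroupOf_iff_le_normalizer (zpowers_le_of_mem hx)).2 hn
  have h3 := ((zpowers x).subgroupOf D).index_mul_card
  rw [Nat.card_congr (subgroupOfEquivOfLe (zpowers_le_of_mem hx)).toEquiv, Nat.card_zpowers, hD,
    mul_left_inj' (orderOf_pos x).ne', index_eq_card] at h3
  refine Or.inl ⟨_, h1, (subgroupOfEquivOfLe (zpowers_le_of_mem hx)).isCyclic.2 inferInstance,
    isCyclic_of_orderOf_eq_card (QuotientGroup.mk ⟨d, hd⟩) (h3 ▸ orderOf_eq_prime_pow (p := 2)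
      (n := 1) (fun h => h2 ?_) (by rw [← show _ = 2 ^ (1 + 1) from h3, pow_card_eq_one']))⟩
  rwa [pow_one, pow_two, ← QuotientGroup.mk_mul, QuotientGroup.eq_one_iff] at h

omit [Finite G] in
theorem map_mem_sup {K : Type*} [Group K] (ρ : D →* K) {a b : D} {g : D}
    (hg : (g : G) ∈ zpowers (a : G) ⊔ zpowers (b : G)) : ρ g ∈ zpowers (ρ a) ⊔ zpowers (ρ b) := by
  obtain ⟨g', h2, h3⟩ := (show zpowers (a : G) ⊔ zpowers (b : G) ≤ ((zpowers (ρ a) ⊔
    zpowers (ρ b)).comap ρ).map D.subtype from sup_le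
      (zpowers_le_of_mem ⟨a, mem_sup_left (mem_zpowers _), rfl⟩)
      (zpowers_le_of_mem ⟨b, mem_sup_right (mem_zpowers _), rfl⟩)) hg
  exact Subtype.ext h3 ▸ h2

variable {M : Ideal AlgInt} {B : Set (IrrCharacter G)} {e : (k M)[G]}
  (hM : IsPModular 2 M) (hB : IsPBlock M B) (he : MaxPair 2 ⊤ (eb M B) D e)
  (hD : IsDefectGroup 2 M B D)
include hM hB he hD

theorem card_le_of_cen (hz : z ∈ D) (hc : D ≤ Cen z) (h : blockRank 2 (sbl 2 D e z) ≤ 3 ∨
    (blockRank 2 (sbl 2 D e z) ≤ 4 ∧ 3 * kz B ≤ Nat.card D)) : Nat.card B ≤ Nat.card D := by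
  rw [card_defectGroup hM hB hD] at h ⊢
  exact card_le_of_major hM (exists_orderOf_of_mem hM.1 he.bpair.pair.isP hz)
    (isInducedBlock_sbl hM hB he.bpair hz) (blockDefect_sbl_of_le hM hB he hz hc) h

theorem card_le_of_rank (h : blockRank 2 B ≤ 3) : Nat.card B ≤ Nat.card D :=
  card_le_of_cen hM hB he hD (one_mem D) (fun g _ => mem_Cen.2 (by simp))
    (Or.inl (blockRank_sbl_one hM hB he.bpair ▸ h))

theorem card_le_of_ez (h : EZ D) : Nat.card B ≤ Nat.card D := by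
  obtain ⟨z, hz, hc, a, ha, h⟩ := h
  obtain ⟨K, _, _, ρ, b, h1, h2, h3, h4, -⟩ := exists_quot hM he.bpair.pair hz
    (isDefGrp_sbl_of_le hM he hz hc)
  obtain ⟨y, hy, h5⟩ := exists_two (sup_le (zpowers_le_of_mem ha) (zpowers_le_of_mem hz)) h
  have h6 : ∀ g : D, (g : G) ∈ zpowers a ⊔ zpowers z → ρ g ∈ zpowers (ρ ⟨a, ha⟩) := fun g hg => by
    simpa [(h4 ⟨z, hz⟩).2 (mem_zpowers z)] using map_mem_sup ρ (a := ⟨a, ha⟩) (b := ⟨z, hz⟩) hg
  refine card_le_of_cen hM hB he hD hz hc (Or.inl (h3 ▸ rank_le_of_ci2 hM h1 h2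
    ⟨_, ⟨⟨a, ha⟩, rfl⟩, _, ⟨⟨y, hy⟩, rfl⟩, ?_⟩))
  rintro _ ⟨g, rfl⟩
  rw [← map_inv, ← map_mul]
  exact (h5 g g.2).imp (h6 _) (h6 _)

omit he in
theorem card_le_of_index_le_four {C : Subgroup G} (hCD : C ≤ D) (hc : IsCyclic C)
    (hi : C.relIndex D ≤ 4) : Nat.card B ≤ Nat.card D := by
  obtain ⟨e, he⟩ := exists_maxPair_of_defect hM hB hD
  have hp := he.bpair.pair
  obtain ⟨x, rfl⟩ := C.isCyclic_iff_exists_zpowers_eq_top.1 hc
  have hx := hCD (mem_zpowers x)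
  have h1 := ((zpowers x).subgroupOf D).index_mul_card
  rw [Nat.card_congr (subgroupOfEquivOfLe hCD).toEquiv] at h1
  by_cases h2 : Nat.card D ≤ 2 * Nat.card (zpowers x)
  · exact card_le_of_rank hM hB he hD (rank_le_of_ci2 hM hB hD ⟨x, hx, exists_two hCD h2⟩)
  obtain ⟨w, h3, h4⟩ := exists_fc hM hp hx
  have hw := h3.right
  have h5 : Nat.card D = 4 * orderOf w := by
    obtain ⟨j, -, hj⟩ := (Nat.dvd_prime_pow Nat.prime_two).1
      (card_defectGroup hM hB hD ▸ Dvd.intro _ h1)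
    rw [relIndex, hj] at hi
    have h5 : j ≤ 2 := (Nat.pow_le_pow_iff_right one_lt_two).1 hi
    rw [← FConj.orderOf_eq' h3, ← Nat.card_zpowers]
    rw [hj] at h1
    interval_cases j <;> omega
  obtain ⟨n, ho⟩ := exists_orderOf_of_mem hM.1 hp.isP hw
  by_cases hC : ∀ g ∈ D, Commute g w → g ∈ zpowers w
  swap
  · push Not at hC
    obtain ⟨g, hg, h6, h7⟩ := hC
    exact card_le_of_ez hM hB he hD (ez_of_commute hp.isP hw ho h5 hg h7 h6)
  have h6 := card_le_of_le fun g (hg : g ∈ D ⊓ Cen w) => hC g hg.1 (mem_Cen.1 hg.2)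
  rw [Nat.card_zpowers] at h6
  rcases index_four hp.isP hw ho h5 hC with h | h | ⟨m, s, t, h⟩
  · refine card_le_of_rank hM hB he hD (rank_le_of_meta hM hB hD h fun n k ⟨φ⟩ => ?_)
    have h7 : D ≤ Cen w := fun g hg => mem_Cen.2 (congrArg Subtype.val (φ.injective (by
      rw [map_mul, map_mul, mul_comm]) : (⟨g, hg⟩ * ⟨w, hw⟩ : D) = ⟨w, hw⟩ * ⟨g, hg⟩))
    rw [inf_eq_left.2 h7] at h6
    have := orderOf_pos w
    omega
  · exact card_le_of_ez hM hB he hD h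
  have hu := pow_mem hw (2 ^ (m + 2))
  obtain ⟨K, _, _, ρ, b, h7, h8, h9, h10, -⟩ := exists_quot hM hp hu
    (isDefGrp_sbl_of_le hM he hu h.cen)
  refine card_le_of_cen hM hB he hD hu h.cen (Or.inr ⟨h9 ▸ (h.dx h10).rank_le_four hM h7 h8, ?_⟩)
  have h11 := isDefGrp_sbl hM he hw h4
  obtain ⟨K, _, _, ρ, b, h12, h13, h14, h15, -⟩ := exists_quot hM hp hw h11
  have h16 := card_range_mul (mem_inf.2 ⟨hw, self_mem_Cen w⟩) h15
  have h17 := kz_le_of_rank hM ⟨n, ho⟩ (isInducedBlock_sbl hM hB he.bpair hw)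
    (h14 ▸ rank_le_of_card_le hM h12 h13 (by have := orderOf_pos w; nlinarith))
  rw [← h11.card_eq_pow_sub hM (sbl_spec hM hp hw).1] at h17
  omega

end CF.BlockB
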